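import Groth.Agent.EtLC12.FlasqueAcyclic
import Groth.Agent.EtFound.Presentation
import Groth.Agent.SiteBase.Horseshoe
import Groth.Prelude.Def_EtBC2

/-! sheaves killed by an integer embed into ones without higher direct images -/

set_option autoImplicit false
set_option linter.style.haveILetI false
universe u

open CategoryTheory CategoryTheory.Limits AlgebraicGeometry Opposite

namespace Groth.Agent.EtBC

open Groth.Agent.EtLC12.FlasqueAcyclic

set_option backward.isDefEq.respectTransparency.types false

variable {X S : Scheme.{u}}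

/-- sheaves without Čech cohomology have no higher direct images -/
theorem isZero_rpush_of_isCechAcyclic (g : X ⟶ S) (q : ℕ) (G : EtCoh.Ab X) (hG : IsCechAcyclic G) :
    IsZero ((EtCoh.Rpush g (q + 1)).obj G) := by
  induction q generalizing G with
  | zero =>
    let E := ShortComplex.mk (Injective.ι G) (cokernel.π _) (cokernel.condition (Injective.ι G))
    have hE : E.ShortExact := { exact := ShortComplex.exact_of_g_is_cokernel _ (cokernelIsCokernel _) }
    haveI : Injective E.X₂ := inferInstanceAs (Injective (Injective.under G))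
    haveI : Epi ((EtCoh.push g).map E.g) := by
      refine (sheafToPresheaf _ _).epi_of_epi_map ?_
      haveI : ∀ V, Epi (((sheafToPresheaf _ _).map ((EtCoh.push g).map E.g)).app V) := fun V =>
        (AddCommGrpCat.epi_iff_surjective _).2 (sections_surjective E hE hG ((EtCoh.bc g).obj V.unop))
      exact NatTrans.epi_of_epi_app _
    haveI he : Epi (((EtCoh.push g).rightDerived 0).map E.g) := by
      haveI : Epi ((EtCoh.push g).toRightDerivedZero.app E.X₂ ≫ ((EtCoh.push g).rightDerived 0).map E.g) := by
        rw [← (EtCoh.push g).toRightDerivedZero.naturality]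
        exact epi_comp _ _
      exact epi_of_epi ((EtCoh.push g).toRightDerivedZero.app E.X₂) _
    let L := SESResLib.derivedLES (EtCoh.push g)
    have hδ : L.δ E hE 0 1 rfl = 0 := (cancel_epi (((EtCoh.push g).rightDerived 0).map E.g)).1
      ((L.comp_δ E hE 0 1 rfl).trans comp_zero.symm)
    haveI : Mono (((EtCoh.push g).rightDerived 1).map E.f) :=
      (ShortComplex.exact_iff_mono _ hδ).1 (L.exact₁ E hE 0 1 rfl)
    exact ((EtCoh.push g).isZero_rightDerived_obj_injective_succ 0 E.X₂).of_mono
      (((EtCoh.push g).rightDerived 1).map E.f)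
  | succ n ih =>
    let E := ShortComplex.mk (Injective.ι G) (cokernel.π _) (cokernel.condition (Injective.ι G))
    have hE : E.ShortExact := { exact := ShortComplex.exact_of_g_is_cokernel _ (cokernelIsCokernel _) }
    haveI : Injective E.X₂ := inferInstanceAs (Injective (Injective.under G))
    have h3 := ih E.X₃ (isCechAcyclic_X₃ E hE hG (isCechAcyclic_of_injective E.X₂))
    exact ((SESResLib.derivedLES (EtCoh.push g)).exact₁ E hE (n + 1) (n + 2) rfl).isZero_of_both_zeros
      (h3.eq_of_src _ _) (((EtCoh.push g).isZero_rightDerived_obj_injective_succ (n + 1) E.X₂).eq_of_tgt _ _)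

/-- a sheaf killed by `n` as a sheaf of `ℤ/n`-modules -/
noncomputable def killedMod {n : ℕ} (F : EtCoh.Ab X) (hF : EtCoh.KilledBy n F) :
    EtModW.Mod (ULift.{u + 1} (ZMod n)) X where
  obj :=
    letI : ∀ U : X.Etaleᵒᵖ, Module (ZMod n) (F.obj.obj U) := fun U =>
      AddCommGroup.zmodModule (fun s => hF U.unop s)
    letI : ∀ U : X.Etaleᵒᵖ, Module (ULift.{u + 1} (ZMod n)) (F.obj.obj U) := fun U =>
      Module.compHom _ (ULift.ringEquiv (R := ZMod n)).toRingHom
    { obj := fun U => ModuleCat.of (ULift.{u + 1} (ZMod n)) (F.obj.obj U)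
      map := fun {U V} a => ModuleCat.ofHom
        { toFun := F.obj.map a
          map_add' := map_add _
          map_smul' := fun c x => ZMod.map_smul (F.obj.map a).hom c.down x }
      map_id := fun U => ModuleCat.hom_ext (LinearMap.ext fun x => ConcreteCategory.congr_hom (F.obj.map_id U) x)
      map_comp := fun a b => ModuleCat.hom_ext (LinearMap.ext fun x =>
        ConcreteCategory.congr_hom (F.obj.map_comp a b) x) }
  property := Presheaf.isSheaf_of_isSheaf_comp _ _ (forget₂ (ModuleCat.{u + 1} (ULift.{u + 1} (ZMod n))) AddCommGrpCat.{u + 1})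
    ((Presheaf.isSheaf_of_iso_iff (NatIso.ofComponents (fun _ => Iso.refl _) (fun _ => rfl))).1 F.property)

/-- the underlying sheaf of `killedMod` -/
noncomputable def killedModIso {n : ℕ} (F : EtCoh.Ab X) (hF : EtCoh.KilledBy n F) :
    F ≅ (EtModD.forgetToAb (ULift.{u + 1} (ZMod n)) X).obj (killedMod F hF) :=
  (fullyFaithfulSheafToPresheaf _ _).preimageIso (NatIso.ofComponents (fun _ => Iso.refl _) (fun _ => rfl))

theorem killedBy_forgetToAb (n : ℕ) (M : EtModW.Mod (ULift.{u + 1} (ZMod n)) X) :
    EtCoh.KilledBy n ((EtModD.forgetToAb _ X).obj M) := fun U s => by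
  let V : ModuleCat (ULift.{u + 1} (ZMod n)) := M.obj.obj (op U)
  have h : ∀ x : V, n • x = 0 := fun x => by
    rw [← Nat.cast_smul_eq_nsmul (ULift.{u + 1} (ZMod n)),
      show ((n : ℕ) : ULift.{u + 1} (ZMod n)) = 0 from ULift.ext _ _ (ZMod.natCast_self n), zero_smul]
  exact h s

/-- the embedding -/
theorem exists_mono_acyclic {n : ℕ} (F : EtCoh.Ab X) (hF : EtCoh.KilledBy n F) :
    ∃ (J : EtCoh.Ab X) (i : F ⟶ J), Mono i ∧ EtCoh.KilledBy n J ∧
      ∀ ⦃S : Scheme.{u}⦄ (g : X ⟶ S) (q : ℕ), IsZero ((EtCoh.Rpush g (q + 1)).obj J) := by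
  let I := Injective.under (killedMod F hF)
  let i := Injective.ι (killedMod F hF)
  refine ⟨(EtModD.forgetToAb _ X).obj I, (killedModIso F hF).hom ≫ (EtModD.forgetToAb _ X).map i, ?_,
    killedBy_forgetToAb n I, fun S g q => isZero_rpush_of_isCechAcyclic g q _ (isCechAcyclic_forgetToAb _ I)⟩
  haveI : Mono ((EtModD.forgetToAb (ULift.{u + 1} (ZMod n)) X).map i) := by
    refine (sheafToPresheaf _ _).mono_of_mono_map ?_
    haveI : Mono ((sheafToPresheaf _ _).map i) := inferInstance
    haveI : ∀ V, Mono (((sheafToPresheaf _ _).map ((EtModD.forgetToAb (ULift.{u + 1} (ZMod n)) X).map i)).app V) :=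
      fun V => inferInstanceAs (Mono ((forget₂ (ModuleCat.{u + 1} (ULift.{u + 1} (ZMod n))) AddCommGrpCat.{u + 1}).map
        (((sheafToPresheaf _ _).map i).app V)))
    exact NatTrans.mono_of_mono_app _
  exact mono_comp _ _

/-- quotients of sheaves killed by `n` -/
theorem killedBy_of_epi {n : ℕ} {F G : EtCoh.Ab X} (a : F ⟶ G) [Epi a] (hF : EtCoh.KilledBy n F) :
    EtCoh.KilledBy n G := by
  rw [EtFound.killedBy_iff_nsmul] at hF ⊢
  refine (cancel_epi a).1 ?_
  rw [Preadditive.comp_nsmul, Category.comp_id, comp_zero, ← Category.id_comp a, ← Preadditive.nsmul_comp, hF,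
    zero_comp]

end Groth.Agent.EtBC
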