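import Groth.Agent.EtLC12.QcqsAcyclic
import Groth.Agent.EtLC12.FlasqueAcyclic
import Groth.Agent.EtBC.Killed
import Groth.Agent.EtFound.PullStalk
import Groth.Agent.EtFound.QcqsObjects
import Groth.Agent.S8525
import Groth.Agent.S8560
import Groth.Prelude.Def_EtAcyc

/-! torsion sheaves embed into torsion sheaves without cohomology on qcqs objects -/

set_option autoImplicit false
set_option linter.style.haveILetI false
universe u

open CategoryTheory CategoryTheory.Limits AlgebraicGeometry Opposite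

namespace Groth.Agent.EtBC

open Groth.Agent.EtLC12 Groth.Agent.EtFound

set_option backward.isDefEq.respectTransparency.types false
set_option maxHeartbeats 1000000

variable {X S : Scheme.{u}}

/-- positive integers with prime factors in `L` -/
def LIdx (L : Set ℕ) : Type (u + 1) := ULift.{u + 1} {m : ℕ // EtAcyc.PrimesIn L m}

instance (L : Set ℕ) : Preorder (LIdx.{u} L) where
  le a b := a.down.1 ∣ b.down.1
  le_refl _ := dvd_rfl
  le_trans _ _ _ := dvd_trans

instance (L : Set ℕ) : Nonempty (LIdx.{u} L) :=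
  ⟨⟨1, one_pos, fun _ hp h => absurd (Nat.dvd_one.1 h) hp.ne_one⟩⟩

instance (L : Set ℕ) : IsDirected (LIdx.{u} L) (· ≤ ·) :=
  ⟨fun a b => ⟨⟨a.down.1 * b.down.1, Nat.mul_pos a.down.2.1 b.down.2.1, fun p hp h => by
    rcases hp.dvd_mul.1 h with h | h
    exacts [a.down.2.2 p hp h, b.down.2.2 p hp h]⟩, dvd_mul_right _ _, dvd_mul_left _ _⟩⟩

theorem nsmul_cond {A : Type*} [Category* A] [Abelian A] (I : A) {m n : ℕ} (h : m ∣ n) :
    kernel.ι (m • 𝟙 I) ≫ (n • 𝟙 I) = 0 := by
  obtain ⟨k, rfl⟩ := h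
  have e := kernel.condition (m • 𝟙 I)
  rw [Preadditive.comp_nsmul, Category.comp_id] at e ⊢
  rw [mul_comm, mul_nsmul', e, nsmul_zero]

/-- the kernels of multiplications by a directed family of integers -/
noncomputable def kerSystem {A : Type*} [Category* A] [Abelian A] {J : Type*} [Preorder J] (m : J → ℕ)
    (hm : ∀ ⦃a b : J⦄, a ≤ b → m a ∣ m b) (I : A) : J ⥤ A where
  obj a := kernel (m a • 𝟙 I)
  map h := kernel.lift _ (kernel.ι _) (nsmul_cond I (hm (leOfHom h)))
  map_id a := (cancel_mono (kernel.ι _)).1 ((kernel.lift_ι _ _ _).trans (Category.id_comp _).symm)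
  map_comp h h' := (cancel_mono (kernel.ι _)).1 (by
    rw [Category.assoc, kernel.lift_ι, kernel.lift_ι, kernel.lift_ι])

/-- the system of `m`-torsion subsheaves -/
noncomputable def torsionSystem (L : Set ℕ) (I : EtCoh.Ab X) : LIdx.{u} L ⥤ EtCoh.Ab X :=
  kerSystem (fun a => a.down.1) (fun _ _ h => h) I

theorem killedBy_kernel_nsmul (n : ℕ) (I : EtCoh.Ab X) : EtCoh.KilledBy n (kernel (n • 𝟙 I)) := by
  rw [killedBy_iff_nsmul]
  refine (cancel_mono (kernel.ι (n • 𝟙 I))).1 ?_
  rw [zero_comp, Preadditive.nsmul_comp, Category.id_comp, ← Category.comp_id (kernel.ι (n • 𝟙 I)),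
    ← Preadditive.comp_nsmul, kernel.condition]

theorem mono_forgetToAb (Λ : Type (u + 1)) [CommRing Λ] {M N : EtModW.Mod Λ X} (a : M ⟶ N) [Mono a] :
    Mono ((EtModD.forgetToAb Λ X).map a) := by
  refine (sheafToPresheaf _ _).mono_of_mono_map ?_
  haveI : Mono ((sheafToPresheaf _ _).map a) := inferInstance
  haveI : ∀ V, Mono (((sheafToPresheaf _ _).map ((EtModD.forgetToAb Λ X).map a)).app V) :=
    fun V => inferInstanceAs (Mono ((forget₂ (ModuleCat.{u + 1} Λ) AddCommGrpCat.{u + 1}).map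
      (((sheafToPresheaf _ _).map a).app V)))
  exact NatTrans.mono_of_mono_app _

/-- an embedding of a killed sheaf into an acyclic killed one -/
theorem exists_mono_flasque {n : ℕ} (G : EtCoh.Ab X) (hG : EtCoh.KilledBy n G) :
    ∃ (J : EtCoh.Ab X) (i : G ⟶ J), Mono i ∧ EtCoh.KilledBy n J ∧ FlasqueAcyclic.IsCechAcyclic J :=
  ⟨(EtModD.forgetToAb _ X).obj (Injective.under (killedMod G hG)),
    (killedModIso G hG).hom ≫ (EtModD.forgetToAb _ X).map (Injective.ι (killedMod G hG)),
    haveI := mono_forgetToAb (X := X) _ (Injective.ι (killedMod G hG))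
    mono_comp _ _,
    killedBy_forgetToAb n _, FlasqueAcyclic.isCechAcyclic_forgetToAb _ _⟩

theorem isCechAcyclic_of_retract {G J : EtCoh.Ab X} (i : G ⟶ J) (r : J ⟶ G) (h : i ≫ r = 𝟙 G)
    (hJ : FlasqueAcyclic.IsCechAcyclic J) : QcqsAcyclic.IsCechAcyclic G := by
  intro U _ ι _ Uf _ _ p
  let F := sheafToPresheaf X.smallEtaleTopology AddCommGrpCat.{u + 1} ⋙ EtCech.cechHFunctor Uf (p + 1)
  refine (IsZero.iff_id_eq_zero _).2 ?_
  show 𝟙 (F.obj G) = 0
  rw [← F.map_id, ← h, F.map_comp]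
  exact (congrArg (· ≫ F.map r) ((hJ U ι Uf p).eq_of_tgt (F.map i) 0)).trans zero_comp

/-- torsion subsheaves of an injective sheaf have no higher Čech cohomology -/
theorem isCechAcyclic_kernel_nsmul (n : ℕ) (I : EtCoh.Ab X) [Injective I] :
    QcqsAcyclic.IsCechAcyclic (kernel (n • 𝟙 I)) := by
  obtain ⟨J, i, hi, hJn, hJ⟩ := exists_mono_flasque _ (killedBy_kernel_nsmul n I)
  have hJ0 : n • 𝟙 J = 0 := (killedBy_iff_nsmul n J).1 hJn
  let r : J ⟶ I := Injective.factorThru (kernel.ι _) i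
  let r' : J ⟶ kernel (n • 𝟙 I) := kernel.lift _ r (by
    rw [Preadditive.comp_nsmul, Category.comp_id, ← Category.id_comp r, ← Preadditive.nsmul_comp, hJ0, zero_comp])
  refine isCechAcyclic_of_retract i r' ?_ hJ
  rw [← cancel_mono (kernel.ι (n • 𝟙 I)), Category.assoc, kernel.lift_ι, Category.id_comp]
  exact Injective.comp_factorThru _ _

theorem isLTorsion_of_iso {L : Set ℕ} {F G : EtCoh.Ab X} (e : F ≅ G) (hF : EtAcyc.IsLTorsion L F) :
    EtAcyc.IsLTorsion L G := fun U s x => by
  obtain ⟨V, g, m, hv, hm, h0⟩ := hF U (e.inv.hom.app (op U) s) x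
  refine ⟨V, g, m, hv, hm, ?_⟩
  have h := congrArg (e.hom.hom.app (op V)) h0
  rw [map_nsmul, map_zero, ← NatTrans.naturality_apply] at h
  have e' : e.hom.hom.app (op V) (e.inv.hom.app (op V) (G.obj.map g.op s)) = G.obj.map g.op s :=
    ConcreteCategory.congr_hom (congrArg (fun t : G ⟶ G => t.hom.app (op V)) e.inv_hom_id) _
  rwa [e'] at h

/-- quotients of torsion sheaves -/
theorem isLTorsion_of_epi {L : Set ℕ} {G Q : EtCoh.Ab X} (a : G ⟶ Q) [Epi a] (hG : EtAcyc.IsLTorsion L G) :
    EtAcyc.IsLTorsion L Q := fun U s x => by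
  have hloc : Presheaf.IsLocallySurjective X.smallEtaleTopology a.hom :=
    (Sheaf.isLocallySurjective_iff_epi' AddCommGrpCat.{u + 1} a).2 inferInstance
  obtain ⟨V₁, g₁, v₁, ⟨c₁, hc₁⟩, hv₁⟩ := (mem_topology_iff _).1 (hloc.imageSieve_mem (U := U) s) x
  obtain ⟨V, g₂, m, ⟨v, hv⟩, hm, h0⟩ := hG V₁ c₁ v₁
  refine ⟨V, g₂ ≫ g₁, m, ⟨v, ?_⟩, hm, ?_⟩
  · exact (Scheme.Hom.comp_apply g₂.left g₁.left v).trans ((congrArg (fun z => g₁.left.base z) hv).trans hv₁)
  · rw [op_comp, Functor.map_comp, ConcreteCategory.comp_apply, ← hc₁, ← NatTrans.naturality_apply, ← map_nsmul, h0,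
      map_zero]

/-- the embedding -/
theorem exists_mono_torsion_acyclic {L : Set ℕ} (F : EtCoh.Ab X) (hF : EtAcyc.IsLTorsion L F) :
    ∃ (J : EtCoh.Ab X) (i : F ⟶ J), Mono i ∧ EtAcyc.IsLTorsion L J ∧ QcqsAcyclic.IsCechAcyclic J := by
  let I := Injective.under F
  let D := torsionSystem L I
  haveI : IsFiltered (LIdx.{u} L) := isFiltered_of_directed_le_nonempty _
  let cI : Cocone D :=
    { pt := I
      ι := { app := fun a => kernel.ι (a.down.1 • 𝟙 I)
             naturality := fun a b h => (kernel.lift_ι _ _ _).trans (Category.comp_id _).symm } }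
  let d : colimit D ⟶ I := colimit.desc D cI
  have hrep : ∀ (Ω : Type u) [Field Ω] [IsSepClosed Ω] (ξ : Spec (CommRingCat.of Ω) ⟶ X)
      (t : (EtCoh.stalk ξ).obj (colimit D)), ∃ a y, (EtCoh.stalk ξ).map (colimit.ι D a) y = t := fun Ω _ _ ξ t =>
    Concrete.isColimit_exists_rep _ (isColimitOfPreserves (EtCoh.stalk ξ) (colimit.isColimit D)) t
  haveI : Mono d := by
    refine Preadditive.mono_of_cancel_zero _ fun {T} g hg => eq_of_stalks _ _ fun Ω _ _ ξ => ?_
    haveI : (EtCoh.stalk ξ).Additive := Functor.additive_of_preserves_binary_products _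
    ext z
    obtain ⟨a, y, hy⟩ := hrep Ω ξ ((EtCoh.stalk ξ).map g z)
    have h1 : (EtCoh.stalk ξ).map (kernel.ι (a.down.1 • 𝟙 I)) y = 0 := by
      refine (ConcreteCategory.congr_hom ((congrArg (EtCoh.stalk ξ).map (colimit.ι_desc cI a).symm).trans
        ((EtCoh.stalk ξ).map_comp _ _)) y).trans ?_
      refine (congrArg ((EtCoh.stalk ξ).map d) hy).trans ?_
      refine (ConcreteCategory.congr_hom ((EtCoh.stalk ξ).map_comp g d) z).symm.trans ?_
      exact ConcreteCategory.congr_hom ((congrArg (EtCoh.stalk ξ).map hg).trans ((EtCoh.stalk ξ).map_zero _ _)) z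
    have hinj := (AddCommGrpCat.mono_iff_injective _).1
      ((EtCoh.stalk ξ).map_mono (kernel.ι (a.down.1 • 𝟙 I)))
    refine (hy.symm.trans ((congrArg _ (hinj (h1.trans (map_zero _).symm))).trans (map_zero _))).trans ?_
    exact (ConcreteCategory.congr_hom ((EtCoh.stalk ξ).map_zero T (colimit D)) z).symm
  have hd : Injective.ι F ≫ cokernel.π d = 0 := by
    refine eq_of_stalks _ _ fun Ω _ _ ξ => ?_
    haveI : (EtCoh.stalk ξ).Additive := Functor.additive_of_preserves_binary_products _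
    ext t
    obtain ⟨m, hm, h0⟩ := (S8525.result L F).1 hF Ω ξ t
    let a : LIdx.{u} L := ⟨m, hm⟩
    have hk := (ShortComplex.exact_of_f_is_kernel (ShortComplex.mk _ _ (kernel.condition (m • 𝟙 I)))
      (kernelIsKernel _)).map_of_mono_of_preservesKernel (EtCoh.stalk ξ) inferInstance inferInstance
    obtain ⟨y, hy⟩ := (ShortComplex.ab_exact_iff _).1 hk ((EtCoh.stalk ξ).map (Injective.ι F) t) (by
      show (EtCoh.stalk ξ).map (m • 𝟙 I) _ = 0
      rw [Functor.map_nsmul, CategoryTheory.Functor.map_id]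
      change m • ((EtCoh.stalk ξ).map (Injective.ι F) t) = 0
      rw [← map_nsmul, h0, map_zero])
    change (EtCoh.stalk ξ).map (kernel.ι (m • 𝟙 I)) y = _ at hy
    refine (ConcreteCategory.congr_hom ((EtCoh.stalk ξ).map_comp _ _) t).trans ?_
    refine (congrArg ((EtCoh.stalk ξ).map (cokernel.π d)) hy.symm).trans ?_
    refine (ConcreteCategory.congr_hom ((EtCoh.stalk ξ).map_comp (kernel.ι (m • 𝟙 I)) (cokernel.π d)) y).symm.trans ?_
    have e : kernel.ι (m • 𝟙 I) ≫ cokernel.π d = 0 := by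
      refine (congrArg (· ≫ cokernel.π d) (colimit.ι_desc cI a).symm).trans ?_
      exact (Category.assoc _ _ _).trans ((congrArg (colimit.ι D a ≫ ·) (cokernel.condition d)).trans comp_zero)
    refine (ConcreteCategory.congr_hom ((congrArg (EtCoh.stalk ξ).map e).trans ((EtCoh.stalk ξ).map_zero _ _)) y).trans ?_
    exact (ConcreteCategory.congr_hom ((EtCoh.stalk ξ).map_zero _ _) t).symm
  refine ⟨colimit D, Abelian.monoLift d (Injective.ι F) hd, mono_of_mono_fac (Abelian.monoLift_comp d _ hd),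
    (S8525.result L _).2 fun Ω _ _ ξ t => ?_,
    QcqsAcyclic.isCechAcyclic_colimit D fun a => isCechAcyclic_kernel_nsmul _ _⟩
  haveI : (EtCoh.stalk ξ).Additive := Functor.additive_of_preserves_binary_products _
  obtain ⟨a, y, rfl⟩ := hrep Ω ξ t
  refine ⟨a.down.1, a.down.2, ?_⟩
  rw [← map_nsmul]
  have e := congrArg (fun f => (EtCoh.stalk ξ).map f y)
    ((killedBy_iff_nsmul _ _).1 (killedBy_kernel_nsmul a.down.1 I))
  simp only [Functor.map_nsmul, CategoryTheory.Functor.map_id, Functor.map_zero] at e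
  exact (congrArg _ e).trans (map_zero _)

theorem qcqs_pullback {A B C : Scheme.{u}} (a : A ⟶ C) (g : B ⟶ C) [QuasiCompact g] [QuasiSeparated g]
    [CompactSpace ↥A] [QuasiSeparatedSpace ↥A] :
    CompactSpace ↥(pullback a g) ∧ QuasiSeparatedSpace ↥(pullback a g) :=
  ⟨QuasiCompact.compactSpace_of_compactSpace (pullback.fst a g), quasiSeparatedSpace_of_quasiSeparated (pullback.fst a g)⟩

theorem isQcqsObj_bc (g : X ⟶ S) [QuasiCompact g] [QuasiSeparated g] (W : S.Etale) (hW : IsQcqsObj W) :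
    IsQcqsObj ((EtCoh.bc g).obj W) :=
  @qcqs_pullback W.left X S W.hom g _ _ hW.1 hW.2

/-- direct images preserve the vanishing -/
theorem isZero_rpush_of_qcqsAcyclic (g : X ⟶ S) [QuasiCompact g] [QuasiSeparated g] (q : ℕ) (G : EtCoh.Ab X)
    (hG : QcqsAcyclic.IsCechAcyclic G) : IsZero ((EtCoh.Rpush g (q + 1)).obj G) := by
  induction q generalizing G with
  | zero =>
    let E := ShortComplex.mk (Injective.ι G) (cokernel.π _) (cokernel.condition (Injective.ι G))
    have hE : E.ShortExact := { exact := ShortComplex.exact_of_g_is_cokernel _ (cokernelIsCokernel _) }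
    haveI : Injective E.X₂ := inferInstanceAs (Injective (Injective.under G))
    haveI : Epi ((EtCoh.push g).map E.g) := by
      refine (Sheaf.isLocallySurjective_iff_epi' _ _).1 ⟨fun {V} z => ?_⟩
      rw [mem_topology_iff]
      intro x
      obtain ⟨A, hA, hxA, -⟩ := exists_isAffineOpen_mem_and_subset (U := (⊤ : V.left.Opens)) (x := x) trivial
      let W := restrictEtale V A
      haveI : IsAffine W.left := hA
      have hq : IsQcqsObj ((EtCoh.bc g).obj W) := isQcqsObj_bc g W ⟨inferInstance, inferInstance⟩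
      obtain ⟨s, hs⟩ := QcqsAcyclic.sections_surjective E hE hG hq
        (E.X₃.obj.map ((EtCoh.bc g).map (restrictEtaleHom V A)).op z)
      exact ⟨W, restrictEtaleHom V A, ⟨x, hxA⟩, ⟨s, hs⟩, rfl⟩
    haveI he : Epi (((EtCoh.push g).rightDerived 0).map E.g) := by
      haveI : Epi ((EtCoh.push g).toRightDerivedZero.app E.X₂ ≫ ((EtCoh.push g).rightDerived 0).map E.g) := by
        rw [← (EtCoh.push g).toRightDerivedZero.naturality]
        exact epi_comp _ _
      exact epi_of_epi ((EtCoh.push g).toRightDerivedZero.app E.X₂) _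
    let L := SESResLib.derivedLES (EtCoh.push g)
    have hδ : L.δ E hE 0 1 rfl = 0 := (cancel_epi (((EtCoh.push g).rightDerived 0).map E.g)).1
      ((L.comp_δ E hE 0 1 rfl).trans comp_zero.symm)
    haveI : Mono (((EtCoh.push g).rightDerived 1).map E.f) :=
      (ShortComplex.exact_iff_mono _ hδ).1 (L.exact₁ E hE 0 1 rfl)
    exact ((EtCoh.push g).isZero_rightDerived_obj_injective_succ 0 E.X₂).of_mono
      (((EtCoh.push g).rightDerived 1).map E.f)
  | succ n ih =>
    let E := ShortComplex.mk (Injective.ι G) (cokernel.π _) (cokernel.condition (Injective.ι G))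
    have hE : E.ShortExact := { exact := ShortComplex.exact_of_g_is_cokernel _ (cokernelIsCokernel _) }
    haveI : Injective E.X₂ := inferInstanceAs (Injective (Injective.under G))
    have h3 := ih E.X₃ (QcqsAcyclic.isCechAcyclic_X₃ E hE hG (QcqsAcyclic.isCechAcyclic_of_injective E.X₂))
    exact ((SESResLib.derivedLES (EtCoh.push g)).exact₁ E hE (n + 1) (n + 2) rfl).isZero_of_both_zeros
      (h3.eq_of_src _ _) (((EtCoh.push g).isZero_rightDerived_obj_injective_succ (n + 1) E.X₂).eq_of_tgt _ _)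

end Groth.Agent.EtBC
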