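import Groth.Agent.EtBC.CompNBase

/-! comparison for torsion sheaves from sheaves killed by an integer, on quasi-compact quasi-separated schemes -/

set_option autoImplicit false
set_option linter.style.haveILetI false
universe u

open CategoryTheory CategoryTheory.Limits AlgebraicGeometry Opposite

namespace Groth.Agent.EtBC

open Groth.Agent.EtLimit Groth.Agent.EtFound Groth.Agent.EtLC12

set_option backward.isDefEq.respectTransparency.types false
set_option maxHeartbeats 1000000

variable {X Y : Scheme.{u}}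

/-- the inclusions of the torsion subsheaves -/
noncomputable def torsionCocone (L : Set ℕ) (F : EtCoh.Ab X) : Cocone (torsionSystem L F) where
  pt := F
  ι := { app := fun a => kernel.ι (a.down.1 • 𝟙 F)
         naturality := fun a b h => (kernel.lift_ι _ _ _).trans (Category.comp_id _).symm }

/-- a torsion sheaf is the union of its torsion subsheaves -/
theorem nonempty_isColimit_torsionCocone (L : Set ℕ) (F : EtCoh.Ab X) (hF : EtAcyc.IsLTorsion L F) :
    Nonempty (IsColimit (torsionCocone L F)) := by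
  let D := torsionSystem L F
  haveI : IsFiltered (LIdx.{u} L) := isFiltered_of_directed_le_nonempty _
  let d : colimit D ⟶ F := colimit.desc D (torsionCocone L F)
  have hrep : ∀ (Ω : Type u) [Field Ω] [IsSepClosed Ω] (ξ : Spec (CommRingCat.of Ω) ⟶ X)
      (t : (EtCoh.stalk ξ).obj (colimit D)), ∃ a y, (EtCoh.stalk ξ).map (colimit.ι D a) y = t := fun Ω _ _ ξ t =>
    Concrete.isColimit_exists_rep _ (isColimitOfPreserves (EtCoh.stalk ξ) (colimit.isColimit D)) t
  haveI : Mono d := by
    refine Preadditive.mono_of_cancel_zero _ fun {T} g hg => eq_of_stalks _ _ fun Ω _ _ ξ => ?_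
    haveI : (EtCoh.stalk ξ).Additive := Functor.additive_of_preserves_binary_products _
    ext z
    obtain ⟨a, y, hy⟩ := hrep Ω ξ ((EtCoh.stalk ξ).map g z)
    have h1 : (EtCoh.stalk ξ).map (kernel.ι (a.down.1 • 𝟙 F)) y = 0 := by
      refine (ConcreteCategory.congr_hom ((congrArg (EtCoh.stalk ξ).map (colimit.ι_desc (torsionCocone L F) a).symm).trans
        ((EtCoh.stalk ξ).map_comp _ _)) y).trans ?_
      refine (congrArg ((EtCoh.stalk ξ).map d) hy).trans ?_
      refine (ConcreteCategory.congr_hom ((EtCoh.stalk ξ).map_comp g d) z).symm.trans ?_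
      exact ConcreteCategory.congr_hom ((congrArg (EtCoh.stalk ξ).map hg).trans ((EtCoh.stalk ξ).map_zero _ _)) z
    have hinj := (AddCommGrpCat.mono_iff_injective _).1
      ((EtCoh.stalk ξ).map_mono (kernel.ι (a.down.1 • 𝟙 F)))
    refine (hy.symm.trans ((congrArg _ (hinj (h1.trans (map_zero _).symm))).trans (map_zero _))).trans ?_
    exact (ConcreteCategory.congr_hom ((EtCoh.stalk ξ).map_zero T (colimit D)) z).symm
  haveI : Epi d := by
    refine Preadditive.epi_of_cancel_zero _ fun {T} g hg => eq_of_stalks _ _ fun Ω _ _ ξ => ?_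
    haveI : (EtCoh.stalk ξ).Additive := Functor.additive_of_preserves_binary_products _
    ext t
    obtain ⟨m, hm, h0⟩ := (S8525.result L F).1 hF Ω ξ t
    let a : LIdx.{u} L := ⟨m, hm⟩
    have hk := (ShortComplex.exact_of_f_is_kernel (ShortComplex.mk _ _ (kernel.condition (m • 𝟙 F)))
      (kernelIsKernel _)).map_of_mono_of_preservesKernel (EtCoh.stalk ξ) inferInstance inferInstance
    obtain ⟨y, hy⟩ := (ShortComplex.ab_exact_iff _).1 hk t (by
      show (EtCoh.stalk ξ).map (m • 𝟙 F) _ = 0
      rw [Functor.map_nsmul, CategoryTheory.Functor.map_id]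
      exact h0)
    change (EtCoh.stalk ξ).map (kernel.ι (m • 𝟙 F)) y = _ at hy
    refine (congrArg ((EtCoh.stalk ξ).map g) hy.symm).trans ?_
    refine (ConcreteCategory.congr_hom ((EtCoh.stalk ξ).map_comp (kernel.ι (m • 𝟙 F)) g) y).symm.trans ?_
    have e : kernel.ι (m • 𝟙 F) ≫ g = 0 := by
      refine (congrArg (· ≫ g) (colimit.ι_desc (torsionCocone L F) a).symm).trans ?_
      exact (Category.assoc _ _ _).trans ((congrArg (colimit.ι D a ≫ ·) hg).trans comp_zero)
    refine (ConcreteCategory.congr_hom ((congrArg (EtCoh.stalk ξ).map e).trans ((EtCoh.stalk ξ).map_zero _ _)) y).trans ?_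
    exact (ConcreteCategory.congr_hom ((EtCoh.stalk ξ).map_zero _ _) t).symm
  have hd : IsIso d := isIso_of_mono_of_epi d
  exact ⟨(colimit.isColimit D).ofIsoColimit (Cocone.ext (@asIso _ _ _ _ d hd) fun a => colimit.ι_desc (torsionCocone L F) a)⟩

/-- naturality of pullback on cohomology -/
theorem Hpull_hmap (h : Y ⟶ X) [PreservesFiniteLimits (EtCoh.pull h)] {F G : EtCoh.Ab X} (a : F ⟶ G) (q : ℕ)
    (x : EtCoh.H X F q) :
    EtCore.Hpull h G q (hmap a q x) = hmap ((EtCoh.pull h).map a) q (EtCore.Hpull h F q x) := by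
  rw [← hThen_id, ← hThen_id]
  exact HpullThen_hmap h (𝟙 _) (𝟙 _) a ((EtCoh.pull h).map a)
    ((Category.comp_id _).trans (Category.id_comp _).symm) q x

/-- classes over a filtered colimit -/
theorem exists_hmap_of_colimit {J : Type (u + 1)} [SmallCategory J] [IsFiltered J] (n : ℕ) {K : J ⥤ EtCoh.Ab X}
    {c : Cocone K} (hc : IsColimit c) [PreservesColimitsOfShape J (EtCoh.HF X n)] (ξ : EtCoh.H X c.pt n) :
    ∃ (k : J) (η : EtCoh.H X (K.obj k) n), hmap (c.ι.app k) n η = ξ := by
  obtain ⟨k, η, hη⟩ := Concrete.isColimit_exists_rep _ (isColimitOfPreserves (EtCoh.HF X n) hc) ξ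
  exact ⟨k, η, hη⟩

variable [CompactSpace X] [QuasiSeparatedSpace X] [CompactSpace Y] [QuasiSeparatedSpace Y]
  (h : Y ⟶ X) [PreservesFiniteLimits (EtCoh.pull h)] {J : Type (u + 1)} [SmallCategory J] [IsFiltered J]
  {K : J ⥤ EtCoh.Ab X} {c : Cocone K} (hc : IsColimit c) (q : ℕ)

include hc in
omit [CompactSpace X] [QuasiSeparatedSpace X] in
/-- surjectivity passes to filtered colimits -/
theorem surjective_of_colimit (hs : ∀ j, Function.Surjective (EtCore.Hpull h (K.obj j) q)) :
    Function.Surjective (EtCore.Hpull h c.pt q) := by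
  haveI : PreservesColimitsOfSize.{u + 1, u + 1} (EtCoh.pull h) := (EtCoh.pullPushAdj h).leftAdjoint_preservesColimits
  haveI := QcqsAcyclic.preservesColimitsOfShape_HF Y q J
  intro y
  obtain ⟨j, y₀, rfl⟩ := exists_hmap_of_colimit q (isColimitOfPreserves (EtCoh.pull h) hc) y
  obtain ⟨x₀, rfl⟩ := hs j y₀
  exact ⟨hmap (c.ι.app j) q x₀, Hpull_hmap h (c.ι.app j) q x₀⟩

include hc in
/-- injectivity passes to filtered colimits -/
theorem injective_of_colimit (hi : ∀ j, Function.Injective (EtCore.Hpull h (K.obj j) q)) :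
    Function.Injective (EtCore.Hpull h c.pt q) := by
  haveI : PreservesColimitsOfSize.{u + 1, u + 1} (EtCoh.pull h) := (EtCoh.pullPushAdj h).leftAdjoint_preservesColimits
  haveI := QcqsAcyclic.preservesColimitsOfShape_HF X q J
  haveI := QcqsAcyclic.preservesColimitsOfShape_HF Y q J
  refine (injective_iff_map_eq_zero _).2 fun x hx => ?_
  obtain ⟨j, x₀, rfl⟩ := exists_hmap_of_colimit q hc x
  rw [Hpull_hmap] at hx
  let P := K ⋙ EtCoh.pull h
  have hcY := isColimitOfPreserves (EtCoh.HF Y q) (isColimitOfPreserves (EtCoh.pull h) hc)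
  obtain ⟨k, a, b, hk⟩ := Concrete.isColimit_exists_of_rep_eq (P ⋙ EtCoh.HF Y q) hcY
    (i := j) (j := j) (EtCore.Hpull h (K.obj j) q x₀) 0 (hx.trans (map_zero _).symm)
  have h0 : EtCore.Hpull h (K.obj k) q (hmap (K.map a) q x₀) = 0 := by
    rw [Hpull_hmap]
    exact hk.trans (map_zero _)
  have h1 : hmap (K.map a) q x₀ = 0 := (injective_iff_map_eq_zero _).1 (hi k) _ h0
  rw [← c.w a, ← hmap_comp, h1, map_zero]

omit hc

/-- the comparison condition from killed sheaves -/
theorem compN_of_killed (L : Set ℕ) (n : ℕ)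
    (hk : ∀ m, EtAcyc.PrimesIn L m → ∀ G : EtCoh.Ab X, EtCoh.KilledBy m G →
      (∀ q, q ≤ n → Function.Bijective (EtCore.Hpull h G q)) ∧ Function.Injective (EtCore.Hpull h G (n + 1)))
    (F : EtCoh.Ab X) (hF : EtAcyc.IsLTorsion L F) :
    (∀ q, q ≤ n → Function.Bijective (EtCore.Hpull h F q)) ∧ Function.Injective (EtCore.Hpull h F (n + 1)) := by
  haveI : IsFiltered (LIdx.{u} L) := isFiltered_of_directed_le_nonempty _
  obtain ⟨hc⟩ := nonempty_isColimit_torsionCocone L F hF
  exact ⟨fun q hq => ⟨injective_of_colimit h (c := torsionCocone L F) hc q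
      (fun a => ((hk _ a.down.2 _ (killedBy_kernel_nsmul _ _)).1 q hq).1),
    surjective_of_colimit h (c := torsionCocone L F) hc q
      (fun a => ((hk _ a.down.2 _ (killedBy_kernel_nsmul _ _)).1 q hq).2)⟩,
    injective_of_colimit h (c := torsionCocone L F) hc (n + 1)
      (fun a => (hk _ a.down.2 _ (killedBy_kernel_nsmul _ _)).2)⟩

end Groth.Agent.EtBC
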