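import Groth.Agent.EtLimit.Const
import Groth.Agent.EtFound.PullExt

/-! functoriality of relative pullback of cohomology -/

set_option autoImplicit false
set_option linter.style.haveILetI false
universe u

open CategoryTheory CategoryTheory.Limits AlgebraicGeometry Opposite

namespace Groth.Agent.EtBC

open Groth.Agent.EtLimit Groth.Agent.EtFound

set_option backward.isDefEq.respectTransparency.types false

variable {U V Y Z : Scheme.{u}}

/-- composition of relative pullbacks -/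
theorem hVia_comp (a : U ⟶ V) (b : V ⟶ Y) (t : Y ⟶ Z) (c : U ⟶ Y) (t₁ : V ⟶ Z) (t₀ : U ⟶ Z) (hab : a ≫ b = c)
    (h₁ : b ≫ t = t₁) (h₀ : a ≫ t₁ = t₀) (hc : c ≫ t = t₀) [PreservesFiniteLimits (EtCoh.pull a)]
    [PreservesFiniteLimits (EtCoh.pull b)] [PreservesFiniteLimits (EtCoh.pull c)] (G : EtCoh.Ab Z) (n : ℕ)
    (ξ : EtCoh.H Y (pullObj t G) n) :
    hVia a t₁ t₀ h₀ G n (hVia b t t₁ h₁ G n ξ) = hVia c t t₀ hc G n ξ :=
  hThen_comp a b c hab (appOf (θPull b t t₁ h₁) G) (appOf (θPull a t₁ t₀ h₀) G) (appOf (θPull c t t₀ hc) G)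
    (θPull_assoc' a b t t₁ c t₀ h₁ hab hc h₀ G) n ξ

theorem Hpull_hmap_bijective (u : U ⟶ V) [PreservesFiniteLimits (EtCoh.pull u)] [IsIso u] (F : EtCoh.Ab V)
    {M : EtCoh.Ab U} (α : (EtCoh.pull u).obj F ⟶ M) [IsIso α] (n : ℕ) : Function.Bijective (hThen u F α n) :=
  ((ConcreteCategory.isIso_iff_bijective ((EtCoh.HF U n).map α)).1 inferInstance).comp
    (Hpull_bijective_of_isIso u F n)

/-- relative pullback along an isomorphism -/
theorem hVia_bijective (a : U ⟶ V) [IsIso a] (t : V ⟶ Z) (t₀ : U ⟶ Z) (h : a ≫ t = t₀)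
    [PreservesFiniteLimits (EtCoh.pull a)] (G : EtCoh.Ab Z) (n : ℕ) : Function.Bijective (hVia a t t₀ h G n) := by
  haveI : IsIso (appOf (θPull a t t₀ h) G) := by delta appOf; infer_instance
  exact Hpull_hmap_bijective a _ _ n

/-- bijectivity of relative pullback is invariant under isomorphisms of the two schemes -/
theorem hVia_bijective_iff {U' V' : Scheme.{u}} (m : U ⟶ V) (t : V ⟶ Z) (t₀ : U ⟶ Z) (h : m ≫ t = t₀)
    (m' : U' ⟶ V') (t' : V' ⟶ Z) (t₀' : U' ⟶ Z) (h' : m' ≫ t' = t₀') (i : V' ≅ V) (j : U' ≅ U)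
    (hi : i.hom ≫ t = t') (hj : j.hom ≫ t₀ = t₀') (hm : j.hom ≫ m = m' ≫ i.hom)
    [PreservesFiniteLimits (EtCoh.pull m)] [PreservesFiniteLimits (EtCoh.pull m')]
    [PreservesFiniteLimits (EtCoh.pull i.hom)] [PreservesFiniteLimits (EtCoh.pull j.hom)]
    [PreservesFiniteLimits (EtCoh.pull (j.hom ≫ m))] (G : EtCoh.Ab Z) (n : ℕ) :
    Function.Bijective (hVia m t t₀ h G n) ↔ Function.Bijective (hVia m' t' t₀' h' G n) := by
  have hc : (j.hom ≫ m) ≫ t = t₀' := by rw [Category.assoc, h, hj]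
  have e : (fun ξ => hVia j.hom t₀ t₀' hj G n (hVia m t t₀ h G n ξ)) =
      fun ξ => hVia m' t' t₀' h' G n (hVia i.hom t t' hi G n ξ) := funext fun ξ =>
    (hVia_comp j.hom m t (j.hom ≫ m) t₀ t₀' rfl h hj hc G n ξ).trans
      (hVia_comp m' i.hom t (j.hom ≫ m) t' t₀' hm.symm hi h' hc G n ξ).symm
  exact (Function.Bijective.of_comp_iff' (hVia_bijective j.hom t₀ t₀' hj G n) (hVia m t t₀ h G n)).symm.trans
    ((iff_of_eq (congrArg Function.Bijective e)).trans
      (Function.Bijective.of_comp_iff (hVia m' t' t₀' h' G n) (hVia_bijective i.hom t t' hi G n)))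

end Groth.Agent.EtBC
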