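import Groth.Agent.EtBC.CompNBase
import Groth.Agent.EtBC.ViaTools
import Groth.Agent.EtLimit.Mates
import Groth.Agent.EtFound.Detect
import Groth.Agent.EtFound.AcyclicComp
import Groth.Agent.S8536

/-! the range of pullback on cohomology is detected after a surjective base change -/

set_option autoImplicit false
set_option linter.style.haveILetI false
universe u

open CategoryTheory CategoryTheory.Limits AlgebraicGeometry Opposite CategoryTheory.Abelian

namespace Groth.Agent.EtBC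

open Groth.Agent.EtLimit Groth.Agent.EtFound Groth.Agent.EtLC12

set_option backward.isDefEq.respectTransparency.types false
set_option maxHeartbeats 1000000

variable {X Y : Scheme.{u}}

/-- pulling back and evaluating is injective one degree above vanishing -/
theorem injective_hThen_counit (g : X ⟶ Y) [PreservesFiniteLimits (EtCoh.pull g)] (G : EtCoh.Ab X) (n : ℕ)
    (h : ∀ j, 1 ≤ j → j ≤ n → IsZero ((EtCoh.Rpush g j).obj G)) :
    Function.Injective (hThen g ((EtCoh.push g).obj G) ((EtCoh.pullPushAdj g).counit.app G) (n + 1)) := by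
  haveI : PreservesColimitsOfSize.{0, 0} (EtCoh.pull g) := (EtCoh.pullPushAdj g).leftAdjoint_preservesColimits
  haveI : PreservesFiniteColimits (EtCoh.pull g) := PreservesColimitsOfSize.preservesFiniteColimits _
  haveI : (EtCoh.pull g).Additive := Functor.additive_of_preserves_binary_products _
  haveI : (EtCoh.push g).Additive := Functor.additive_of_preserves_binary_products _
  have e := (edge_bijective_of_vanish (EtCoh.pullPushAdj g) n G h (EtCoh.const Y ℤ)).2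
  intro x y hxy
  refine e ((precomp_bijective (EtCore.pullConst g ℤ).inv (n + 1)).1 ?_)
  have hx : ∀ z : EtCoh.H Y ((EtCoh.push g).obj G) (n + 1),
      hThen g _ ((EtCoh.pullPushAdj g).counit.app G) (n + 1) z =
        (Ext.mk₀ (EtCore.pullConst g ℤ).inv).comp (edge (EtCoh.pullPushAdj g) (EtCoh.const Y ℤ) G (n + 1) z)
          (zero_add (n + 1)) := fun z => by
    show ((EtCore.Hpull g _ (n + 1) z).comp (Ext.mk₀ _) (add_zero (n + 1))) = _
    rw [EtMVLib.Hpull_apply, edge_apply, Ext.comp_assoc_of_third_deg_zero]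
  exact (hx x).symm.trans (hxy.trans (hx y))

theorem mate_congr_rfl {A B C : Scheme.{u}} (v : A ⟶ B) (u : B ⟶ C) (M : EtCoh.Ab A) :
    (EtCoh.pushComp u v).inv.app M ≫ (EtCoh.pushComp u v).hom.app M ≫
      (EtCoh.pushCongr (rfl : v ≫ u = v ≫ u)).hom.app M = 𝟙 _ := by
  rw [pushCongr_rfl]
  simp

variable {Xb Yb : Scheme.{u}}

/-- the two descriptions of the transposed map -/
theorem mate_eq (h : Y ⟶ X) (p : Xb ⟶ X) (hb : Yb ⟶ Xb) (pY : Yb ⟶ Y) (w : hb ≫ p = pY ≫ h)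
    (F : EtCoh.Ab X) (J : EtCoh.Ab Xb) (i : (EtCoh.pull p).obj F ⟶ J) :
    (θPull pY h (pY ≫ h) rfl).hom.app F ≫ (θPull hb p (pY ≫ h) w).inv.app F ≫ (EtCoh.pull hb).map i =
      (EtCoh.pull pY).map ((EtCoh.pull h).map ((EtCoh.pullPushAdj p).homEquiv _ _ i) ≫
        EtCoh.baseChange0 p h pY hb w J) ≫ (EtCoh.pullPushAdj pY).counit.app ((EtCoh.pull hb).obj J) := by
  let γ₀ : (EtCoh.pull (pY ≫ h)).obj F ⟶ (EtCoh.pull hb).obj J :=
    (θPull hb p (pY ≫ h) w).inv.app F ≫ (EtCoh.pull hb).map i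
  have hγ₁ : (θPull hb p (pY ≫ h) w).hom.app F ≫ γ₀ = (EtCoh.pull hb).map i := Iso.hom_inv_id_app_assoc _ _ _
  have e₁ := homEquiv_of_cocycle hb p (pY ≫ h) w i (𝟙 _) γ₀ (hγ₁.trans (Category.comp_id _).symm)
  refine cocycle_of_homEquiv pY h (pY ≫ h) rfl _ _ γ₀ (e₁.trans ?_)
  have hcu : (EtCoh.pullPushAdj pY).homEquiv _ ((EtCoh.pull hb).obj J)
      ((EtCoh.pullPushAdj pY).counit.app ((EtCoh.pull hb).obj J)) = 𝟙 _ := by
    rw [Adjunction.homEquiv_unit, Adjunction.right_triangle_components]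
  rw [hcu, CategoryTheory.Functor.map_id, Adjunction.homEquiv_naturality_left, Adjunction.homEquiv_id]
  unfold EtCoh.baseChange0
  rw [Equiv.apply_symm_apply]
  simp only [Category.assoc, pushCongr_rfl]
  refine congrArg (_ ≫ ·) ?_
  refine congrArg (_ ≫ ·) ?_
  refine congrArg (_ ≫ ·) ?_
  exact (Category.comp_id _).symm.trans
    (congrArg (_ ≫ ·) ((EtCoh.pushComp h pY).inv_hom_id_app ((EtCoh.pull hb).obj J)).symm)

/-- a class dies when its pullback comes from an acyclic sheaf -/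
theorem kill_class {Z : Scheme.{u}} (pY : Yb ⟶ Y) (t : Y ⟶ Z) (hb : Yb ⟶ Xb) (p : Xb ⟶ Z) (c : Yb ⟶ Z)
    (h₁ : pY ≫ t = c) (h₂ : hb ≫ p = c) [PreservesFiniteLimits (EtCoh.pull pY)] [PreservesFiniteLimits (EtCoh.pull hb)]
    (F : EtCoh.Ab Z) {J : EtCoh.Ab Xb} {K : EtCoh.Ab Yb} (i : pullObj p F ⟶ J) (κ : (EtCoh.pull hb).obj J ⟶ K)
    {P : EtCoh.Ab Y} (ε : (EtCoh.pull pY).obj P ⟶ K) (β : pullObj t F ⟶ P) (γ : pullObj c F ⟶ K)
    (e₁ : appOf (θPull pY t c h₁) F ≫ γ = (EtCoh.pull pY).map β ≫ ε)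
    (e₂ : appOf (θPull hb p c h₂) F ≫ γ = (EtCoh.pull hb).map i ≫ κ) (n : ℕ)
    (hJ : Subsingleton (EtCoh.H Xb J n)) (hinj : Function.Injective (hThen pY P ε n))
    (ξ : EtCoh.H Y (pullObj t F) n) (y : EtCoh.H Xb (pullObj p F) n)
    (hy : hVia hb p c h₂ F n y = hVia pY t c h₁ F n ξ) : hmap β n ξ = 0 := by
  refine hinj (Eq.trans ?_ (map_zero _).symm)
  have hy0 : hmap i n y = 0 := hJ.elim _ _
  calc hThen pY P ε n (hmap β n ξ) = hmap γ n (hVia pY t c h₁ F n ξ) :=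
        HpullThen_hmap pY (appOf (θPull pY t c h₁) F) ε β γ e₁.symm n ξ
    _ = hmap γ n (hVia hb p c h₂ F n y) := congrArg _ hy.symm
    _ = hThen hb J κ n (hmap i n y) := (HpullThen_hmap hb (appOf (θPull hb p c h₂) F) κ i γ e₂.symm n y).symm
    _ = 0 := by rw [hy0, map_zero]

/-- the transposed map is a monomorphism -/
theorem mono_homEquiv (p : Xb ⟶ X) [Surjective p] {F : EtCoh.Ab X} {J : EtCoh.Ab Xb}
    (i : (EtCoh.pull p).obj F ⟶ J) [Mono i] : Mono ((EtCoh.pullPushAdj p).homEquiv _ _ i) := by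
  haveI : (EtCoh.pull p).Faithful := EtFound.pullback_faithful p
  haveI : Mono ((EtCoh.pullPushAdj p).unit.app F) := Adjunction.unit_mono_of_L_faithful _ _
  rw [Adjunction.homEquiv_unit]
  haveI : Mono ((EtCoh.push p).map i) := Functor.map_mono _ _
  exact mono_comp _ _

variable [CompactSpace X] [QuasiSeparatedSpace X] [CompactSpace Y] [QuasiSeparatedSpace Y]
  [CompactSpace Xb] [QuasiSeparatedSpace Xb]

/-- a class killed in an injectively mapped coefficient sheaf comes from the base -/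
theorem mem_range_of_kill (h : Y ⟶ X) [PreservesFiniteLimits (EtCoh.pull h)] (L : Set ℕ) (n : ℕ)
    (hh : EtAcyc.CompN h L n) {F P : EtCoh.Ab X} (a : F ⟶ P) [Mono a] (hF : EtAcyc.IsLTorsion L F)
    (hP : EtAcyc.IsLTorsion L P) {K : EtCoh.Ab Y} (b : (EtCoh.pull h).obj P ⟶ K) [IsIso b]
    (ξ : EtCoh.H Y ((EtCoh.pull h).obj F) (n + 1)) (hk : hmap ((EtCoh.pull h).map a ≫ b) (n + 1) ξ = 0) :
    ξ ∈ Set.range (EtCore.Hpull h F (n + 1)) := by
  refine S8536.result h L n hh a hF hP ξ ⟨0, ?_⟩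
  rw [map_zero]
  symm
  have hc : hmap b (n + 1) (hmap ((EtCoh.pull h).map a) (n + 1) ξ) = 0 := (hmap_comp _ _ _ _).trans hk
  exact (hmap_bijective_of_isIso b (n + 1)).1 (hc.trans (map_zero _).symm)

theorem hVia_of_HpullVia {U U' V Z : Scheme.{u}} (m : V ⟶ U) (t : U ⟶ Z) (m' : V ⟶ U') (t' : U' ⟶ Z) (c : V ⟶ Z)
    (e : m ≫ t = c) (e' : m' ≫ t' = c) [PreservesFiniteLimits (EtCoh.pull m)]
    [PreservesFiniteLimits (EtCoh.pull m')] (F : EtCoh.Ab Z) (n : ℕ) (x : EtCoh.H U ((EtCoh.pull t).obj F) n)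
    (y : EtCoh.H U' ((EtCoh.pull t').obj F) n)
    (h : EtCore.HpullVia m' t' c e' F n y = EtCore.HpullVia m t c e F n x) :
    hVia m' t' c e' F n y = hVia m t c e F n x :=
  (HpullVia_eq m' t' c e' F n y).symm.trans (h.trans (HpullVia_eq m t c e F n x))

/-- pulling back twice -/
theorem HpullVia_Hpull {U V Z : Scheme.{u}} (m : V ⟶ U) (t : U ⟶ Z) (c : V ⟶ Z) (e : m ≫ t = c)
    [PreservesFiniteLimits (EtCoh.pull m)] [PreservesFiniteLimits (EtCoh.pull t)]
    [PreservesFiniteLimits (EtCoh.pull c)] (F : EtCoh.Ab Z) (n : ℕ) (φ : EtCoh.H Z F n) :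
    EtCore.HpullVia m t c e F n (EtCore.Hpull t F n φ) = EtCore.Hpull c F n φ :=
  (HpullVia_eq m t c e F n _).trans
    ((congrArg (hThen m ((EtCoh.pull t).obj F) (appOf (θPull m t c e) F) n) (hThen_id t F n φ).symm).trans
      ((hThen_comp m t c e (𝟙 _) (appOf (θPull m t c e) F) (𝟙 _)
        (by rw [Category.comp_id, CategoryTheory.Functor.map_id, Category.id_comp]; rfl) n φ).trans
        (hThen_id c F n φ)))

/-- classes coming from the base come from the base after base change -/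
theorem baseChange_mem_range {U U' V Z : Scheme.{u}} (m : V ⟶ U) (t : U ⟶ Z) (m' : V ⟶ U') (t' : U' ⟶ Z) (c : V ⟶ Z)
    (e : m ≫ t = c) (e' : m' ≫ t' = c) [PreservesFiniteLimits (EtCoh.pull m)] [PreservesFiniteLimits (EtCoh.pull m')]
    [PreservesFiniteLimits (EtCoh.pull t)] [PreservesFiniteLimits (EtCoh.pull t')]
    [PreservesFiniteLimits (EtCoh.pull c)] (F : EtCoh.Ab Z) (n : ℕ) (ξ : EtCoh.H U ((EtCoh.pull t).obj F) n)
    (h : ξ ∈ Set.range (EtCore.Hpull t F n)) :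
    EtCore.HpullVia m t c e F n ξ ∈ Set.range (EtCore.HpullVia m' t' c e' F n) := by
  obtain ⟨φ, rfl⟩ := h
  exact ⟨EtCore.Hpull t' F n φ, (HpullVia_Hpull m' t' c e' F n φ).trans (HpullVia_Hpull m t c e F n φ).symm⟩

/-- classes which come from the base after a surjective base change come from the base -/
theorem mem_range_of_baseChange (h : Y ⟶ X) (p : Xb ⟶ X) (hb : Yb ⟶ Xb) (pY : Yb ⟶ Y) (w : hb ≫ p = pY ≫ h)
    [Surjective p] [PreservesFiniteLimits (EtCoh.pull h)] [PreservesFiniteLimits (EtCoh.pull hb)]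
    [PreservesFiniteLimits (EtCoh.pull pY)] (L : Set ℕ) (n : ℕ) (hh : EtAcyc.CompN h L n)
    (hbc : ∀ Fb : EtCoh.Ab Xb, EtAcyc.IsLTorsion L Fb → ∀ i : ℕ, i ≤ n → IsIso (EtBC.bcQ p h pY hb w i Fb))
    (F : EtCoh.Ab X) (hF : EtAcyc.IsLTorsion L F) (ξ : EtCoh.H Y ((EtCoh.pull h).obj F) (n + 1))
    (hξ : EtCore.HpullVia pY h (pY ≫ h) rfl F (n + 1) ξ ∈
      Set.range (EtCore.HpullVia hb p (pY ≫ h) w F (n + 1))) :
    ξ ∈ Set.range (EtCore.Hpull h F (n + 1)) := by
  haveI : QuasiCompact p := inferInstance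
  haveI : QuasiSeparated p := inferInstance
  haveI : EtCoh.BCCont p := EtCoh.bcCont p
  haveI : (EtCoh.pull h).Additive := Functor.additive_of_preserves_binary_products _
  obtain ⟨J, i, hi, hJt, hJ⟩ :=
    exists_mono_torsion_acyclic ((EtCoh.pull p).obj F) (isLTorsion_pull p L hF)
  have hm := mono_homEquiv p i
  have hPt : EtAcyc.IsLTorsion L ((EtCoh.push p).obj J) :=
    isLTorsion_of_iso ((EtCoh.push p).rightDerivedZeroIsoSelf.app J) (S8560.result p L J hJt 0)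
  obtain ⟨y, hy⟩ := hξ
  have hbc0 : IsIso (EtCoh.baseChange0 p h pY hb w J) := by
    haveI := hbc J hJt 0 (Nat.zero_le _)
    haveI : IsIso (EtCoh.baseChange0 p h pY hb w J ≫
        (EtCoh.push pY).toRightDerivedZero.app ((EtCoh.pull hb).obj J)) := by
      rw [← EtBC.bcQ_zero_compat]
      infer_instance
    exact IsIso.of_isIso_comp_right _ ((EtCoh.push pY).toRightDerivedZero.app ((EtCoh.pull hb).obj J))
  have hR' : ∀ j, 1 ≤ j → j ≤ n → IsZero ((EtCoh.Rpush pY j).obj ((EtCoh.pull hb).obj J)) := fun j hj hjn => by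
    obtain ⟨k, rfl⟩ : ∃ k, j = k + 1 := ⟨j - 1, by omega⟩
    haveI := hbc J hJt (k + 1) hjn
    exact ((EtCoh.pull h).map_isZero (isZero_rpush_of_qcqsAcyclic p k J hJ)).of_iso
      (asIso (EtBC.bcQ p h pY hb w (k + 1) J)).symm
  have hy' := hVia_of_HpullVia pY h hb p (pY ≫ h) rfl w F (n + 1) ξ y hy
  have hk := kill_class pY h hb p (pY ≫ h) rfl w F i (𝟙 _) ((EtCoh.pullPushAdj pY).counit.app _)
    ((EtCoh.pull h).map ((EtCoh.pullPushAdj p).homEquiv _ _ i) ≫ EtCoh.baseChange0 p h pY hb w J)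
    ((θPull hb p (pY ≫ h) w).inv.app F ≫ (EtCoh.pull hb).map i) (mate_eq h p hb pY w F J i)
    ((Iso.hom_inv_id_app_assoc _ _ _).trans (Category.comp_id _).symm) (n + 1)
    (QcqsAcyclic.subsingleton_H_of_isCechAcyclic n J hJ) (injective_hThen_counit pY _ n hR') ξ y hy'
  exact mem_range_of_kill h L n hh ((EtCoh.pullPushAdj p).homEquiv _ _ i) hF hPt
    (EtCoh.baseChange0 p h pY hb w J) ξ hk

end Groth.Agent.EtBC
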