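import Groth.Prelude.Def_EtBC2
import Groth.Agent.RDerBC.Gen
import Groth.Agent.EtFound.PullStalk

/-!
# The base change morphism is natural and commutes with connecting maps
-/

set_option autoImplicit false
set_option linter.style.haveILetI false
universe u

open CategoryTheory CategoryTheory.Limits AlgebraicGeometry

namespace Groth.Agent.EtBC

open Groth.Agent

set_option backward.isDefEq.respectTransparency.types false
set_option maxHeartbeats 800000

variable {X S X' S' : Scheme.{u}} (f : X ⟶ S) (g : S' ⟶ S) (f' : X' ⟶ S') (g' : X' ⟶ X) (w : g' ≫ f = f' ≫ g)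

/-- `f_* g'_* ≅ g_* f'_*` -/
noncomputable abbrev sqIso : EtCoh.push g' ⋙ EtCoh.push f ≅ EtCoh.push f' ⋙ EtCoh.push g :=
  EtCoh.pushComp f g' ≪≫ EtCoh.pushCongr w ≪≫ (EtCoh.pushComp g f').symm

variable [PreservesFiniteLimits (EtCoh.pull g')]

theorem bcQAdj_eq (q : ℕ) (F : EtCoh.Ab X) :
    EtBC.bcQAdj f g f' g' w q F = RDerBC.bcGen (EtCoh.push g') (EtCoh.push f) (EtCoh.push f') (EtCoh.push g)
      (sqIso f g f' g' w) ((EtCoh.pullPushAdj g').unit.app F) q := rfl

theorem bcQ_naturality (q : ℕ) {F G : EtCoh.Ab X} (a : F ⟶ G) :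
    (EtCoh.pull g).map ((EtCoh.Rpush f q).map a) ≫ EtBC.bcQ f g f' g' w q G =
      EtBC.bcQ f g f' g' w q F ≫ (EtCoh.Rpush f' q).map ((EtCoh.pull g').map a) := by
  unfold EtBC.bcQ
  rw [← Adjunction.homEquiv_naturality_left_symm, ← Adjunction.homEquiv_naturality_right_symm, bcQAdj_eq, bcQAdj_eq]
  exact congrArg _ (RDerBC.bcGen_natural (EtCoh.push g') (EtCoh.push f) (EtCoh.push f') (EtCoh.push g)
    (sqIso f g f' g' w) _ _ a ((EtCoh.pull g').map a) ((EtCoh.pullPushAdj g').unit.naturality a) q)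

/-- the base change morphism as a natural transformation -/
noncomputable def bcQNat (q : ℕ) : EtCoh.Rpush f q ⋙ EtCoh.pull g ⟶ EtCoh.pull g' ⋙ EtCoh.Rpush f' q where
  app F := EtBC.bcQ f g f' g' w q F
  naturality _ _ a := bcQ_naturality f g f' g' w q a

/-- compatibility with connecting maps -/
theorem bcQ_δ {S : ShortComplex (EtCoh.Ab X)} (hS : S.ShortExact) (hS' : (S.map (EtCoh.pull g')).ShortExact)
    (n₀ n₁ : ℕ) (h : n₀ + 1 = n₁) :
    (EtCoh.pull g).map ((SESResLib.derivedLES (EtCoh.push f)).δ S hS n₀ n₁ h) ≫ EtBC.bcQ f g f' g' w n₁ S.X₁ =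
      EtBC.bcQ f g f' g' w n₀ S.X₃ ≫
        (SESResLib.derivedLES (EtCoh.push f')).δ (S.map (EtCoh.pull g')) hS' n₀ n₁ h := by
  unfold EtBC.bcQ
  let φ : S ⟶ (S.map (EtCoh.pull g')).map (EtCoh.push g') :=
    { τ₁ := (EtCoh.pullPushAdj g').unit.app S.X₁
      τ₂ := (EtCoh.pullPushAdj g').unit.app S.X₂
      τ₃ := (EtCoh.pullPushAdj g').unit.app S.X₃
      comm₁₂ := ((EtCoh.pullPushAdj g').unit.naturality S.f).symm
      comm₂₃ := ((EtCoh.pullPushAdj g').unit.naturality S.g).symm }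
  rw [← Adjunction.homEquiv_naturality_left_symm]
  refine Eq.trans ?_ (Adjunction.homEquiv_naturality_right_symm _ _ _)
  rw [bcQAdj_eq, bcQAdj_eq]
  exact congrArg _ (RDerBC.bcGen_δ (EtCoh.push g') (EtCoh.push f) (EtCoh.push f') (EtCoh.push g)
    (sqIso f g f' g' w) hS hS' φ n₀ n₁ h)

end Groth.Agent.EtBC
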