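import Groth.Agent.EtBC.StalkSeq
import Groth.Agent.EtFound.PullGerm

/-! sections, germs and base change in degree zero -/

set_option autoImplicit false
set_option linter.style.haveILetI false
universe u

open CategoryTheory CategoryTheory.Limits AlgebraicGeometry Opposite

namespace Groth.Agent.EtBC

open Groth.Agent.EtLimit Groth.Agent.EtFound

set_option backward.isDefEq.respectTransparency.types false

variable {X S X' S' : Scheme.{u}} {f : X ⟶ S} {g : S' ⟶ S} {f' : X' ⟶ S'} {g' : X' ⟶ X}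

/-- the canonical map `(V ×_S S') ×_{S'} X' ⟶ (V ×_S X) ×_X X'` -/
noncomputable def bcSq (w : g' ≫ f = f' ≫ g) (V : S.Etale) :
    (EtCoh.bc f').obj ((EtCoh.bc g).obj V) ⟶ (EtCoh.bc g').obj ((EtCoh.bc f).obj V) :=
  (MorphismProperty.Over.pullbackComp (P := EtCoh.etaleMP) (Q := ⊤) f' g).inv.app V ≫
    (MorphismProperty.Over.pullbackCongr (P := EtCoh.etaleMP) (Q := ⊤) w).inv.app V ≫
      (MorphismProperty.Over.pullbackComp (P := EtCoh.etaleMP) (Q := ⊤) g' f).hom.app V

set_option maxHeartbeats 1000000 in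
theorem bcSq_fst (w : g' ≫ f = f' ≫ g) (V : S.Etale) :
    (bcSq w V).left ≫ pullback.fst (pullback.snd V.hom f) g' ≫ pullback.fst V.hom f =
      pullback.fst (pullback.snd V.hom g) f' ≫ pullback.fst V.hom g := by
  let e := (MorphismProperty.Over.pullbackComp (P := EtCoh.etaleMP) (Q := ⊤) f' g).app V
  have h1 := MorphismProperty.Over.pullbackComp_left_fst_fst (P := EtCoh.etaleMP) (Q := ⊤) g' f V
  have h2 := MorphismProperty.Over.pullbackComp_left_fst_fst (P := EtCoh.etaleMP) (Q := ⊤) f' g V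
  have h3 : ((MorphismProperty.Over.pullbackCongr (P := EtCoh.etaleMP) (Q := ⊤) w).inv.app V).left ≫
      pullback.fst V.hom (g' ≫ f) = pullback.fst V.hom (f' ≫ g) := by
    rw [← MorphismProperty.Over.pullbackCongr_hom_app_left_fst w V, ← Category.assoc]
    exact (congrArg (· ≫ _) (congr(($((MorphismProperty.Over.pullbackCongr (P := EtCoh.etaleMP) (Q := ⊤)
      w).inv_hom_id_app V)).left))).trans (Category.id_comp _)
  refine (Category.assoc _ _ _).trans ?_
  refine (congrArg (((MorphismProperty.Over.pullbackComp (P := EtCoh.etaleMP) (Q := ⊤) f' g).inv.app V).left ≫ ·)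
    ((Category.assoc _ _ _).trans ((congrArg (_ ≫ ·) h1).trans h3))).trans ?_
  refine (congrArg (((MorphismProperty.Over.pullbackComp (P := EtCoh.etaleMP) (Q := ⊤) f' g).inv.app V).left ≫ ·)
    h2.symm).trans ?_
  exact (Category.assoc _ _ _).symm.trans ((congrArg (· ≫ _) (congr(($(e.inv_hom_id)).left))).trans (Category.id_comp _))

/-- the base change map on sections coming from the base -/
theorem baseChange0_unit (w : g' ≫ f = f' ≫ g) (F : EtCoh.Ab X) (V : S.Etale) :
    ((EtCoh.pullPushAdj g).unit.app ((EtCoh.push f).obj F)).hom.app (op V) ≫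
        (EtCoh.baseChange0 f g f' g' w F).hom.app (op ((EtCoh.bc g).obj V)) =
      ((EtCoh.pullPushAdj g').unit.app F).hom.app (op ((EtCoh.bc f).obj V)) ≫
        ((EtCoh.pull g').obj F).obj.map (bcSq w V).op := by
  have h := ((EtCoh.pullPushAdj g).homEquiv _ _).apply_symm_apply
    ((EtCoh.push f).map ((EtCoh.pullPushAdj g').unit.app F) ≫ (EtCoh.pushComp f g').hom.app _ ≫
      (EtCoh.pushCongr w).hom.app _ ≫ (EtCoh.pushComp g f').inv.app _)
  rw [Adjunction.homEquiv_unit] at h
  refine (congr(($h).hom.app (op V))).trans ?_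
  simp [bcSq, EtCoh.pushComp, EtCoh.pushCongr]
  rfl

variable {Ω : Type u} [Field Ω] [IsSepClosed Ω]

/-- stalks at equal points -/
noncomputable def stalkCongr {a b : Spec (CommRingCat.of Ω) ⟶ S} (h : a = b) : EtCoh.stalk a ≅ EtCoh.stalk b :=
  eqToIso (by rw [h])

/-- a point over an equal geometric point -/
noncomputable def ptCongr {a b : Spec (CommRingCat.of Ω) ⟶ S} (h : a = b) {V : S.Etale}
    (v : (Scheme.pointSmallEtale a).fiber.obj V) : (Scheme.pointSmallEtale b).fiber.obj V :=
  CategoryTheory.Over.homMk v.left ((CategoryTheory.Over.w v).trans h)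

theorem stalkCongr_germ {a b : Spec (CommRingCat.of Ω) ⟶ S} (h : a = b) (G : EtCoh.Ab S) (V : S.Etale)
    (v : (Scheme.pointSmallEtale a).fiber.obj V) (s : G.obj.obj (op V)) :
    (stalkCongr h).hom.app G ((Scheme.pointSmallEtale a).toPresheafFiber V v G.obj s) =
      (Scheme.pointSmallEtale b).toPresheafFiber V (ptCongr h v) G.obj s := by
  subst h
  rfl

variable {ξ : Spec (CommRingCat.of Ω) ⟶ S} {ξ' : Spec (CommRingCat.of Ω) ⟶ S'}

/-- stalks of a sheaf as stalks of its inverse image -/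
noncomputable def stalkToPull (hξ : ξ' ≫ g = ξ) : EtCoh.stalk ξ ≅ EtCoh.pull g ⋙ EtCoh.stalk ξ' :=
  (stalkCongr hξ).symm ≪≫ (stalkPullIso g ξ').symm

theorem stalkToPull_germ (hξ : ξ' ≫ g = ξ) (G : EtCoh.Ab S) (V : S.Etale)
    (v : (Scheme.pointSmallEtale ξ).fiber.obj V) (s : G.obj.obj (op V)) :
    (stalkToPull hξ).hom.app G ((Scheme.pointSmallEtale ξ).toPresheafFiber V v G.obj s) =
      (Scheme.pointSmallEtale ξ').toPresheafFiber ((EtCoh.bc g).obj V)
        ((bcFiberEquiv g ξ' V).symm (ptCongr hξ.symm v)) ((EtCoh.pull g).obj G).obj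
        (((EtCoh.pullPushAdj g).unit.app G).hom.app (op V) s) := by
  subst hξ
  have h := ConcreteCategory.congr_hom (sheafFiberPullIso_germ g ξ' G V ((bcFiberEquiv g ξ' V).symm (ptCongr rfl v))) s
  rw [Equiv.apply_symm_apply] at h
  exact h

end Groth.Agent.EtBC
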