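import Groth.Agent.EtBC.TorsionAcyclic
import Groth.Agent.EtBC.BcQ
import Groth.Agent.EtBC.Square
import Groth.Agent.EtFound.EdgeVanish
import Groth.Agent.EtLimit.SectFormula
import Groth.Agent.EtLimit.HTools

/-! the comparison condition after base change -/

set_option autoImplicit false
set_option linter.style.haveILetI false
universe u

open CategoryTheory CategoryTheory.Limits AlgebraicGeometry Opposite CategoryTheory.Abelian

namespace Groth.Agent.EtBC

open Groth.Agent.EtLimit Groth.Agent.EtFound Groth.Agent.EtLC12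

set_option backward.isDefEq.respectTransparency.types false
set_option maxHeartbeats 1000000

variable {X Y : Scheme.{u}}

/-- cohomology of a direct image without higher ones -/
theorem subsingleton_H_push_iff (g : X ⟶ Y) [PreservesFiniteLimits (EtCoh.pull g)] (G : EtCoh.Ab X) (n : ℕ)
    (h : ∀ j, 1 ≤ j → j ≤ n → IsZero ((EtCoh.Rpush g j).obj G)) (q : ℕ) (hq : q ≤ n) :
    Subsingleton (EtCoh.H Y ((EtCoh.push g).obj G) q) ↔ Subsingleton (EtCoh.H X G q) := by
  haveI : PreservesColimitsOfSize.{0, 0} (EtCoh.pull g) := (EtCoh.pullPushAdj g).leftAdjoint_preservesColimits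
  haveI : PreservesFiniteColimits (EtCoh.pull g) := PreservesColimitsOfSize.preservesFiniteColimits _
  haveI : (EtCoh.pull g).Additive := Functor.additive_of_preserves_binary_products _
  haveI : (EtCoh.push g).Additive := Functor.additive_of_preserves_binary_products _
  have e := (edge_bijective_of_vanish (EtCoh.pullPushAdj g) n G h (EtCoh.const Y ℤ)).1 q hq
  have c := precomp_bijective (Z := G) (EtCore.pullConst g ℤ).inv q
  exact ⟨fun hs => (c.comp e).2.subsingleton, fun hs => (c.comp e).1.subsingleton⟩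

theorem hThen_id (u : X ⟶ Y) [PreservesFiniteLimits (EtCoh.pull u)] (F : EtCoh.Ab Y) (n : ℕ)
    (ξ : EtCoh.H Y F n) : hThen u F (𝟙 ((EtCoh.pull u).obj F)) n ξ = EtCore.Hpull u F n ξ :=
  Ext.comp_mk₀_id _

theorem hmap_bijective_of_isIso {F G : EtCoh.Ab X} (a : F ⟶ G) [IsIso a] (n : ℕ) :
    Function.Bijective (hmap a n) :=
  postcomp_bijective a n

/-- sections and degree zero -/
theorem Hpull_zero_bijective_iff (f : X ⟶ Y) [PreservesFiniteLimits (EtCoh.pull f)] (G : EtCoh.Ab Y) :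
    Function.Bijective (EtCore.Hpull f G 0) ↔
      IsIso (((EtCoh.pullPushAdj f).unit.app G).hom.app (op (EtCoh.top Y))) := by
  have h1 : Function.Bijective (EtCore.Hpull f G 0) ↔ Function.Bijective ((EtMVLib.pullSec f).app G) := by
    have he : (hSec ((EtCoh.pull f).obj G)) ∘ (EtCore.Hpull f G 0) = ((EtMVLib.pullSec f).app G) ∘ hSec G :=
      funext fun ξ => hSec_Hpull f G ξ
    rw [← (Function.Bijective.of_comp_iff' (hSec_bijective _) (EtCore.Hpull f G 0)), he,
      Function.Bijective.of_comp_iff _ (hSec_bijective G)]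
  refine h1.trans (Iff.trans (ConcreteCategory.isIso_iff_bijective _).symm ?_)
  rw [EtMVLib.pullSec_app]
  exact isIso_comp_right_iff _ _

theorem bij_zero {Xb Yb : Scheme.{u}} (h : Y ⟶ X) (p : Xb ⟶ X) (hb : Yb ⟶ Xb) (pY : Yb ⟶ Y)
    (w : hb ≫ p = pY ≫ h) [PreservesFiniteLimits (EtCoh.pull hb)] [PreservesFiniteLimits (EtCoh.pull h)]
    (F : EtCoh.Ab Xb) (h0 : IsIso (EtBC.bcQ p h pY hb w 0 F))
    (hX : Function.Bijective (EtCore.Hpull h ((EtCoh.push p).obj F) 0)) :
    Function.Bijective (EtCore.Hpull hb F 0) := by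
  rw [Hpull_zero_bijective_iff] at hX ⊢
  haveI hbc : IsIso (EtCoh.baseChange0 p h pY hb w F) := by
    haveI : IsIso (EtCoh.baseChange0 p h pY hb w F ≫ (EtCoh.push pY).toRightDerivedZero.app ((EtCoh.pull hb).obj F)) := by
      rw [← EtBC.bcQ_zero_compat]
      infer_instance
    exact IsIso.of_isIso_comp_right _ ((EtCoh.push pY).toRightDerivedZero.app ((EtCoh.pull hb).obj F))
  have hcomp : IsIso ((EtCoh.baseChange0 p h pY hb w F).hom.app (op ((EtCoh.bc h).obj (EtCoh.top X)))) :=
    inferInstanceAs (IsIso ((sheafToPresheaf _ _ ⋙ (evaluation _ _).obj _).map (EtCoh.baseChange0 p h pY hb w F)))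
  haveI hsq' : IsIso (bcSq w (EtCoh.top X)) :=
    IsIso.comp_isIso' (Iso.isIso_inv ((MorphismProperty.Over.pullbackComp (P := EtCoh.etaleMP) (Q := ⊤) pY h).app _))
      (IsIso.comp_isIso' (Iso.isIso_inv ((MorphismProperty.Over.pullbackCongr (P := EtCoh.etaleMP) (Q := ⊤) w).app _))
        (Iso.isIso_hom ((MorphismProperty.Over.pullbackComp (P := EtCoh.etaleMP) (Q := ⊤) hb p).app _)))
  have hsq := baseChange0_unit w F (EtCoh.top X)
  haveI : IsIso (bcSq w (EtCoh.top X)).op := @isIso_op _ _ _ _ _ hsq'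
  haveI hmap : IsIso (((EtCoh.pull hb).obj F).obj.map (bcSq w (EtCoh.top X)).op) :=
    Functor.map_isIso ((EtCoh.pull hb).obj F).obj _
  haveI : IsIso (((EtCoh.pullPushAdj hb).unit.app F).hom.app (op ((EtCoh.bc p).obj (EtCoh.top X)))) := by
    haveI := hX
    haveI : IsIso (((EtCoh.pullPushAdj hb).unit.app F).hom.app (op ((EtCoh.bc p).obj (EtCoh.top X))) ≫
        ((EtCoh.pull hb).obj F).obj.map (bcSq w (EtCoh.top X)).op) := by
      rw [← hsq]
      exact IsIso.comp_isIso' hX hcomp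
    exact @IsIso.of_isIso_comp_right _ _ _ _ _ _ (((EtCoh.pull hb).obj F).obj.map (bcSq w (EtCoh.top X)).op) hmap this
  let e := (EtCore.bcTopIso p).hom.op
  have hn := ((EtCoh.pullPushAdj hb).unit.app F).hom.naturality e
  haveI : IsIso (((EtCoh.pullPushAdj hb).unit.app F).hom.app (op (EtCoh.top Xb)) ≫
      ((EtCoh.pull hb ⋙ EtCoh.push hb).obj F).obj.map e) := by
    rw [← hn]
    infer_instance
  exact IsIso.of_isIso_comp_right _ (((EtCoh.pull hb ⋙ EtCoh.push hb).obj F).obj.map e)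

variable {Xb Yb : Scheme.{u}} (hb : Yb ⟶ Xb) [PreservesFiniteLimits (EtCoh.pull hb)]

/-- injectivity one degree above bijectivity -/
theorem injective_Hpull_succ {F J : EtCoh.Ab Xb} (i : F ⟶ J) [Mono i] (q : ℕ)
    (hJ : Subsingleton (EtCoh.H Xb J (q + 1))) (bJ : Function.Bijective (EtCore.Hpull hb J q))
    (bQ : Function.Injective (EtCore.Hpull hb (cokernel i) q)) : Function.Injective (EtCore.Hpull hb F (q + 1)) := by
  haveI : PreservesColimitsOfSize.{0, 0} (EtCoh.pull hb) := (EtCoh.pullPushAdj hb).leftAdjoint_preservesColimits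
  haveI : (EtCoh.pull hb).Additive := Functor.additive_of_preserves_binary_products _
  let E := ShortComplex.mk i (cokernel.π i) (cokernel.condition i)
  have hE : E.ShortExact := { exact := ShortComplex.exact_of_g_is_cokernel _ (cokernelIsCokernel _) }
  have hE' := hE.map_of_exact (EtCoh.pull hb)
  refine (injective_iff_map_eq_zero _).2 fun x hx => ?_
  obtain ⟨c, rfl⟩ := exists_hδ_of_hmap_eq_zero hE (rfl : q + 1 = q + 1) x (Subsingleton.elim _ _)
  have hd : hδ hE' (rfl : q + 1 = q + 1) (hThen hb E.X₃ (𝟙 _) q c) = 0 :=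
    (HpullThen_hδ hb hE hE' (𝟙 _) (𝟙 _) (𝟙 _) ((Category.id_comp _).trans (Category.comp_id _).symm)
      ((Category.id_comp _).trans (Category.comp_id _).symm) (rfl : q + 1 = q + 1) c).symm.trans
      ((hThen_id hb E.X₁ _ _).trans hx)
  obtain ⟨a, ha⟩ := exists_hmap_of_hδ_eq_zero hE' rfl _ hd
  obtain ⟨a₀, rfl⟩ := bJ.2 a
  have hc : hmap E.g q a₀ = c := by
    refine bQ ?_
    rw [← hThen_id, ← hThen_id]
    refine (HpullThen_hmap hb (𝟙 _) (𝟙 _) E.g ((EtCoh.pull hb).map E.g)
      ((Category.comp_id _).trans (Category.id_comp _).symm) q a₀).trans ?_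
    rw [hThen_id]
    exact ha
  rw [← hc]
  exact hδ_hmap_g hE rfl a₀

/-- surjectivity -/
theorem surjective_Hpull_succ {F J : EtCoh.Ab Xb} (i : F ⟶ J) [Mono i] (q : ℕ)
    (hJ : Subsingleton (EtCoh.H Yb ((EtCoh.pull hb).obj J) (q + 1)))
    (bQ : Function.Surjective (EtCore.Hpull hb (cokernel i) q)) : Function.Surjective (EtCore.Hpull hb F (q + 1)) := by
  haveI : PreservesColimitsOfSize.{0, 0} (EtCoh.pull hb) := (EtCoh.pullPushAdj hb).leftAdjoint_preservesColimits
  haveI : (EtCoh.pull hb).Additive := Functor.additive_of_preserves_binary_products _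
  let E := ShortComplex.mk i (cokernel.π i) (cokernel.condition i)
  have hE : E.ShortExact := { exact := ShortComplex.exact_of_g_is_cokernel _ (cokernelIsCokernel _) }
  have hE' := hE.map_of_exact (EtCoh.pull hb)
  intro y
  obtain ⟨c, rfl⟩ := exists_hδ_of_hmap_eq_zero hE' (rfl : q + 1 = q + 1) y (hJ.elim _ _)
  obtain ⟨c₀, rfl⟩ := bQ c
  refine ⟨hδ hE rfl c₀, ?_⟩
  refine (hThen_id hb E.X₁ _ _).symm.trans ?_
  refine (HpullThen_hδ hb hE hE' (𝟙 _) (𝟙 _) (𝟙 _)
    ((Category.id_comp _).trans (Category.comp_id _).symm) ((Category.id_comp _).trans (Category.comp_id _).symm)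
    (rfl : q + 1 = q + 1) c₀).trans ?_
  exact congrArg _ (hThen_id hb E.X₃ q c₀)

/-- the comparison condition after base change -/
theorem compN_baseChange [CompactSpace X] [QuasiSeparatedSpace X] [CompactSpace Xb] [QuasiSeparatedSpace Xb]
    (h : Y ⟶ X) (p : Xb ⟶ X) (pY : Yb ⟶ Y) (w : hb ≫ p = pY ≫ h)
    [PreservesFiniteLimits (EtCoh.pull h)] (L : Set ℕ) (n : ℕ) (hh : EtAcyc.CompN h L n)
    (hbc : ∀ Fb : EtCoh.Ab Xb, EtAcyc.IsLTorsion L Fb → ∀ i : ℕ, i ≤ n → IsIso (EtBC.bcQ p h pY hb w i Fb))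
    (F : EtCoh.Ab Xb) (hF : EtAcyc.IsLTorsion L F) :
    (∀ q : ℕ, q ≤ n → Function.Bijective (EtCore.Hpull hb F q)) ∧
      Function.Injective (EtCore.Hpull hb F (n + 1)) := by
  haveI : QuasiCompact p := inferInstance
  haveI : QuasiSeparated p := inferInstance
  haveI : EtCoh.BCCont p := EtCoh.bcCont p
  haveI : PreservesFiniteLimits (EtCoh.pull p) := pull_preservesFiniteLimits _
  haveI : PreservesFiniteLimits (EtCoh.pull pY) := pull_preservesFiniteLimits _
  haveI : (EtCoh.pull h).Additive := Functor.additive_of_preserves_binary_products _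
  have htor : ∀ G, EtAcyc.IsLTorsion L G → EtAcyc.IsLTorsion L ((EtCoh.push p).obj G) := fun G hG =>
    isLTorsion_of_iso ((EtCoh.push p).rightDerivedZeroIsoSelf.app G) (S8560.result p L G hG 0)
  have vanish : ∀ J, EtAcyc.IsLTorsion L J → QcqsAcyclic.IsCechAcyclic J → ∀ q, q + 1 ≤ n →
      Subsingleton (EtCoh.H Yb ((EtCoh.pull hb).obj J) (q + 1)) := by
    intro J hJt hJ q hq
    have hR : ∀ j, 1 ≤ j → IsZero ((EtCoh.Rpush p j).obj J) := fun j hj => by
      obtain ⟨k, rfl⟩ : ∃ k, j = k + 1 := ⟨j - 1, by omega⟩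
      exact isZero_rpush_of_qcqsAcyclic p k J hJ
    have hR' : ∀ j, 1 ≤ j → j ≤ n → IsZero ((EtCoh.Rpush pY j).obj ((EtCoh.pull hb).obj J)) := fun j hj hjn => by
      haveI := hbc J hJt j hjn
      exact ((EtCoh.pull h).map_isZero (hR j hj)).of_iso (asIso (EtBC.bcQ p h pY hb w j J)).symm
    have hX : Subsingleton (EtCoh.H X ((EtCoh.push p).obj J) (q + 1)) :=
      (subsingleton_H_push_iff p J (q + 1) (fun j hj _ => hR j hj) (q + 1) le_rfl).2
        (QcqsAcyclic.subsingleton_H_of_isCechAcyclic q J hJ)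
    haveI : IsIso (EtCoh.baseChange0 p h pY hb w J) := by
      haveI := hbc J hJt 0 (Nat.zero_le _)
      haveI : IsIso (EtCoh.baseChange0 p h pY hb w J ≫ (EtCoh.push pY).toRightDerivedZero.app ((EtCoh.pull hb).obj J)) := by
        rw [← EtBC.bcQ_zero_compat]
        infer_instance
      exact IsIso.of_isIso_comp_right _ ((EtCoh.push pY).toRightDerivedZero.app ((EtCoh.pull hb).obj J))
    have hY : Subsingleton (EtCoh.H Y ((EtCoh.push pY).obj ((EtCoh.pull hb).obj J)) (q + 1)) := by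
      haveI := hX
      haveI := (((hh _ (htor J hJt)).1 (q + 1) hq).2).subsingleton
      exact (hmap_bijective_of_isIso (EtCoh.baseChange0 p h pY hb w J) (q + 1)).2.subsingleton
    exact (subsingleton_H_push_iff pY _ n hR' (q + 1) hq).1 hY
  have bij : ∀ q, q ≤ n → ∀ G, EtAcyc.IsLTorsion L G → Function.Bijective (EtCore.Hpull hb G q) := by
    intro q
    induction q with
    | zero => exact fun _ G hG => bij_zero h p hb pY w G (hbc G hG 0 (Nat.zero_le _)) ((hh _ (htor G hG)).1 0 (Nat.zero_le _))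
    | succ q ih =>
      intro hq G hG
      obtain ⟨J, i, hi, hJt, hJ⟩ := exists_mono_torsion_acyclic G hG
      exact ⟨injective_Hpull_succ hb i q (QcqsAcyclic.subsingleton_H_of_isCechAcyclic q J hJ) (ih (by omega) J hJt)
          (ih (by omega) _ (isLTorsion_of_epi (cokernel.π i) hJt)).1,
        surjective_Hpull_succ hb i q (vanish J hJt hJ q hq)
          (ih (by omega) _ (isLTorsion_of_epi (cokernel.π i) hJt)).2⟩
  refine ⟨fun q hq => bij q hq F hF, ?_⟩
  obtain ⟨J, i, hi, hJt, hJ⟩ := exists_mono_torsion_acyclic F hF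
  exact injective_Hpull_succ hb i n (QcqsAcyclic.subsingleton_H_of_isCechAcyclic n J hJ) (bij n le_rfl J hJt)
    (bij n le_rfl _ (isLTorsion_of_epi (cokernel.π i) hJt)).1

end Groth.Agent.EtBC
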