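import Groth.Agent.EtBC.Killed
import Groth.Agent.EtBC.BcQ
import Groth.Agent.CohPullX.EdgeOut
import Groth.Agent.EtFound.PropPush
import Groth.Agent.EtFound.IntegralProps
import Mathlib.CategoryTheory.Abelian.Refinements
import Mathlib.CategoryTheory.Adjunction.FullyFaithful

/-! tools for dévissage of base change morphisms -/

set_option autoImplicit false
set_option linter.style.haveILetI false
universe v u₁ u

open CategoryTheory CategoryTheory.Limits AlgebraicGeometry Opposite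

namespace Groth.Agent.EtBC

section chase

variable {A : Type u₁} [Category.{v} A] [Abelian A]

/-- a chase -/
theorem mono_of_ladder {A₁ A₂ A₃ B₁ B₂ B₃ : A} {u : A₁ ⟶ A₂} {d : A₂ ⟶ A₃} [Epi d] (hud : u ≫ d = 0)
    {u' : B₁ ⟶ B₂} {d' : B₂ ⟶ B₃} (w : u' ≫ d' = 0) (hB : (ShortComplex.mk u' d' w).Exact) {a₁ : A₁ ⟶ B₁} [Epi a₁]
    {a₂ : A₂ ⟶ B₂} [Mono a₂] {a₃ : A₃ ⟶ B₃} (h₁ : u ≫ a₂ = a₁ ≫ u') (h₂ : d ≫ a₃ = a₂ ≫ d') : Mono a₃ := by
  refine Preadditive.mono_of_cancel_zero _ fun {T} x hx => ?_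
  obtain ⟨T₁, p, hp, y, hy⟩ := surjective_up_to_refinements_of_epi d x
  have hy0 : (y ≫ a₂) ≫ d' = 0 := by
    rw [Category.assoc, ← h₂, ← reassoc_of% hy, hx, comp_zero]
  obtain ⟨T₂, p₂, hp₂, z, hz⟩ := hB.exact_up_to_refinements (y ≫ a₂) hy0
  obtain ⟨T₃, p₃, hp₃, w₁, hw⟩ := surjective_up_to_refinements_of_epi a₁ z
  have h3 : p₃ ≫ p₂ ≫ y = w₁ ≫ u := (cancel_mono a₂).1 (by
    simp only [Category.assoc] at hz ⊢
    rw [hz, reassoc_of% hw, h₁])
  refine (cancel_epi (p₃ ≫ p₂ ≫ p)).1 ?_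
  rw [comp_zero, Category.assoc, Category.assoc, hy, reassoc_of% h3, hud, comp_zero]

/-- a map of cokernels in a ladder is a monomorphism -/
theorem mono_cokernelMap_of_ladder {A₀ A₁ A₂ A₃ B₀ B₁ B₂ B₃ : A} {d : A₀ ⟶ A₁} {i : A₁ ⟶ A₂} {j : A₂ ⟶ A₃}
    (wA : i ≫ j = 0) (hA : (ShortComplex.mk i j wA).Exact)
    {d' : B₀ ⟶ B₁} {i' : B₁ ⟶ B₂} {j' : B₂ ⟶ B₃} (wB : d' ≫ i' = 0) (wB' : i' ≫ j' = 0)
    (hB : (ShortComplex.mk d' i' wB).Exact) {a₀ : A₀ ⟶ B₀} [Epi a₀] {a₁ : A₁ ⟶ B₁} {a₂ : A₂ ⟶ B₂}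
    {a₃ : A₃ ⟶ B₃} [Mono a₃] (h₀ : d ≫ a₁ = a₀ ≫ d') (h₁ : i ≫ a₂ = a₁ ≫ i') (h₂ : j ≫ a₃ = a₂ ≫ j') :
    Mono (cokernel.map a₁ a₂ i i' h₁.symm) := by
  refine Preadditive.mono_of_cancel_zero _ fun {T} x hx => ?_
  obtain ⟨T₁, p, hp, x', hx'⟩ := surjective_up_to_refinements_of_epi (cokernel.π a₁) x
  have h0 : (x' ≫ i') ≫ cokernel.π a₂ = 0 := by
    rw [Category.assoc, ← cokernel.π_desc a₁ (i' ≫ cokernel.π a₂)
      (by rw [← reassoc_of% h₁, cokernel.condition, comp_zero]), ← reassoc_of% hx']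
    exact (congrArg (p ≫ ·) hx).trans comp_zero
  obtain ⟨T₂, p₂, hp₂, y, hy⟩ := (ShortComplex.exact_of_g_is_cokernel (ShortComplex.mk a₂ (cokernel.π a₂)
    (cokernel.condition a₂)) (cokernelIsCokernel a₂)).exact_up_to_refinements _ h0
  dsimp at y hy
  have hj : y ≫ j = 0 := (cancel_mono a₃).1 (by
    rw [zero_comp, Category.assoc, h₂, ← reassoc_of% hy, wB', comp_zero, comp_zero])
  obtain ⟨T₃, p₃, hp₃, z, hz⟩ := hA.exact_up_to_refinements y hj
  dsimp at z hz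
  have hk : (p₃ ≫ p₂ ≫ x' - z ≫ a₁) ≫ i' = 0 := by
    rw [Preadditive.sub_comp, sub_eq_zero, Category.assoc, Category.assoc, hy, reassoc_of% hz, Category.assoc, h₁]
  obtain ⟨T₄, p₄, hp₄, w₁, hw₁⟩ := hB.exact_up_to_refinements _ hk
  dsimp at w₁ hw₁
  obtain ⟨T₅, p₅, hp₅, v, hv⟩ := surjective_up_to_refinements_of_epi a₀ w₁
  have key : p₅ ≫ p₄ ≫ p₃ ≫ p₂ ≫ x' = (p₅ ≫ p₄ ≫ z + v ≫ d) ≫ a₁ := by
    have e := congrArg (p₅ ≫ ·) hw₁
    simp only [Preadditive.comp_sub, sub_eq_iff_eq_add] at e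
    rw [Preadditive.add_comp, Category.assoc, Category.assoc, Category.assoc, h₀, ← reassoc_of% hv, e, add_comm]
  refine (cancel_epi (p₅ ≫ p₄ ≫ p₃ ≫ p₂ ≫ p)).1 ?_
  simp only [Category.assoc, comp_zero, hx']
  rw [reassoc_of% key, cokernel.condition, comp_zero]

/-- the second edge map over an exact functor -/
theorem isIso_edgeOut {B : Type u₁} [Category.{v} B] [Abelian B] [HasInjectiveResolutions A]
    {C : Type u₁} [Category.{v} C] [Abelian C] (Φ : A ⥤ B) [Φ.Additive] (Ψ : B ⥤ C) [Ψ.Additive]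
    [PreservesFiniteLimits Ψ] [PreservesFiniteColimits Ψ] (q : ℕ) (X : A) : IsIso (RDer.edgeOut Φ Ψ q X) := by
  let K := (Φ.mapHomologicalComplex _).obj (injectiveResolution X).cocomplex
  haveI : IsIso (RDer.homologyComparison Ψ ((Φ.mapHomologicalComplex _).obj (injectiveResolution X).cocomplex) q) := by
    refine CohPullX.isIso_homologyComparison_of_cokernel Ψ K q ((ComplexShape.up ℕ).prev q) rfl ?_ inferInstance
    exact (ShortComplex.exact_of_g_is_cokernel (ShortComplex.mk _ _ (K.toCycles_comp_homologyπ _ q))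
      (K.homologyIsCokernel _ q rfl)).map Ψ
  dsimp only [RDer.edgeOut]
  exact IsIso.comp_isIso' inferInstance (IsIso.comp_isIso' this
    (Iso.isIso_hom (Ψ.mapIso ((injectiveResolution X).isoRightDerivedObj Φ q).symm)))

end chase

set_option backward.isDefEq.respectTransparency.types false

/-- direct images along integral morphisms reflect isomorphisms -/
theorem push_reflectsIso {X Y : Scheme.{u}} (f : X ⟶ Y) [IsIntegralHom f] {F G : EtCoh.Ab X} (a : F ⟶ G)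
    [IsIso ((EtCoh.push f).map a)] : IsIso a := by
  haveI : ∀ G, Epi ((EtCoh.pullPushAdj f).counit.app G) := fun G =>
    (Sheaf.isLocallySurjective_iff_epi' _ _).1
      (EtFound.isLocallySurjective_counit_of_propA f (EtFound.propA_integral f) G)
  haveI : (EtCoh.push f).Faithful := (EtCoh.pullPushAdj f).faithful_R_of_epi_counit_app
  exact isIso_of_reflects_iso a (EtCoh.push f)

/-- direct and inverse images of sheaves killed by `n` -/
theorem killedBy_push {X Y : Scheme.{u}} (f : X ⟶ Y) {n : ℕ} {F : EtCoh.Ab X} (hF : EtCoh.KilledBy n F) :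
    EtCoh.KilledBy n ((EtCoh.push f).obj F) := by
  haveI : (EtCoh.push f).Additive := Functor.additive_of_preserves_binary_products _
  rw [EtFound.killedBy_iff_nsmul] at hF ⊢
  rw [← CategoryTheory.Functor.map_id, ← Functor.map_nsmul, hF, Functor.map_zero]

theorem killedBy_pull {X Y : Scheme.{u}} (f : X ⟶ Y) {n : ℕ} {F : EtCoh.Ab Y} (hF : EtCoh.KilledBy n F) :
    EtCoh.KilledBy n ((EtCoh.pull f).obj F) := by
  haveI : PreservesFiniteLimits (EtCoh.pull f) := EtFound.pull_preservesFiniteLimits _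
  haveI : (EtCoh.pull f).Additive := Functor.additive_of_preserves_binary_products _
  rw [EtFound.killedBy_iff_nsmul] at hF ⊢
  rw [← CategoryTheory.Functor.map_id, ← Functor.map_nsmul, hF, Functor.map_zero]

end Groth.Agent.EtBC
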