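import Groth.Agent.EtLimit.StalkPush0
import Groth.Agent.Hensel.StrictSchemes
import Groth.Agent.EtFound.SectionUnr
import Groth.Agent.EtFound.StrictMap
import Groth.Agent.S0537

/-! geometric points of strictly local schemes and unique lifting -/

set_option autoImplicit false
set_option linter.style.haveILetI false
universe u

open CategoryTheory CategoryTheory.Limits AlgebraicGeometry IsLocalRing

namespace Groth.Agent.EtBC

open Groth.Agent.EtLimit

set_option backward.isDefEq.respectTransparency.types false

/-- over a strictly henselian ring every geometric point over the closed point lifts uniquely -/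
theorem liftsUniquely_strict (R : Type u) [CommRing R] [HenselianLocalRing R] [IsSepClosed (ResidueField R)]
    {S : Scheme.{u}} (π : Spec (CommRingCat.of R) ⟶ S) {Ω : Type u} [Field Ω] [IsSepClosed Ω]
    (z : Spec (CommRingCat.of Ω) ⟶ Spec (CommRingCat.of R)) (hzc : ∀ a, z.base a = closedPoint R) :
    LiftsUniquely π z := by
  intro V v hv
  haveI : AlgebraicGeometry.Etale V.hom := V.prop
  let W := pullback V.hom π
  let q : W ⟶ Spec (CommRingCat.of R) := pullback.snd V.hom π
  haveI : AlgebraicGeometry.Etale q := MorphismProperty.pullback_snd _ _ inferInstance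
  let u : Spec (CommRingCat.of Ω) ⟶ W := pullback.lift v z hv
  have huq : u ≫ q = z := pullback.lift_snd _ _ _
  let t : W := u.base default
  have ht : q t = closedPoint R := by
    show q (u default) = _
    rw [← Scheme.Hom.comp_apply, huq]
    exact hzc default
  obtain ⟨σ, hσ, hσt⟩ := (Hensel.strictlyHenselian_iff_exists_section R).1 ⟨‹_›, ‹_›⟩ W q inferInstance t ht
  haveI : IsOpenImmersion σ := EtFound.isOpenImmersion_section _ σ hσ
  have hrange : Set.range u.base ⊆ Set.range σ.base := by
    rintro _ ⟨a, rfl⟩
    exact ⟨closedPoint R, hσt.trans (congrArg u.base (Subsingleton.elim default a))⟩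
  let k := IsOpenImmersion.lift σ u hrange
  have hkσ : k ≫ σ = u := IsOpenImmersion.lift_fac _ _ _
  have hk : k = z := by
    calc k = k ≫ (σ ≫ q) := by rw [hσ, Category.comp_id]
      _ = z := by rw [← Category.assoc, hkσ, huq]
  rw [hk] at hkσ
  refine ⟨σ ≫ pullback.fst V.hom π, ⟨?_, ?_⟩, fun ρ hρ => ?_⟩
  · rw [Category.assoc, pullback.condition, ← Category.assoc, hσ, Category.id_comp]
  · rw [← Category.assoc, hkσ]
    exact pullback.lift_fst _ _ _
  · let τ : Spec (CommRingCat.of R) ⟶ W := pullback.lift ρ (𝟙 _) (hρ.1.trans (Category.id_comp π).symm)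
    have hτu : z ≫ τ = u := by
      apply pullback.hom_ext
      · exact (Category.assoc _ _ _).trans ((congrArg (z ≫ ·) (pullback.lift_fst _ _ _)).trans
          (hρ.2.trans (pullback.lift_fst _ _ _).symm))
      · exact (Category.assoc _ _ _).trans ((congrArg (z ≫ ·) (pullback.lift_snd _ _ _)).trans
          ((Category.comp_id _).trans huq.symm))
    have hτc : τ (closedPoint R) ∈ Set.range σ.base := by
      refine ⟨closedPoint R, hσt.trans ?_⟩
      show u default = τ (closedPoint R)
      rw [← hτu, Scheme.Hom.comp_apply]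
      exact congrArg τ (hzc default)
    obtain ⟨l, hl⟩ : ∃ l, l ≫ σ = τ := ⟨IsOpenImmersion.lift σ τ (by
      rintro _ ⟨a, rfl⟩
      exact (specializes_closedPoint (R := R) a).mem_open (τ ⁻¹ᵁ σ.opensRange).2 hτc), IsOpenImmersion.lift_fac _ _ _⟩
    have hl1 : l = 𝟙 _ := by
      calc l = l ≫ (σ ≫ q) := by rw [hσ, Category.comp_id]
        _ = τ ≫ q := by rw [← Category.assoc, hl]
        _ = 𝟙 _ := pullback.lift_snd _ _ _
    rw [hl1, Category.id_comp] at hl
    rw [hl]
    exact (pullback.lift_fst _ _ _).symm

/-- the point of a strictly local scheme given by an embedding of its residue field -/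
noncomputable abbrev resPt (R : Type u) [CommRing R] [IsLocalRing R] {Ω : Type u} [Field Ω]
    (τ : ResidueField R →+* Ω) : Spec (CommRingCat.of Ω) ⟶ Spec (CommRingCat.of R) :=
  Spec.map (CommRingCat.ofHom (τ.comp (residue R)))

theorem resPt_base (R : Type u) [CommRing R] [IsLocalRing R] {Ω : Type u} [Field Ω] (τ : ResidueField R →+* Ω)
    (a : Spec (CommRingCat.of Ω)) : (resPt R τ).base a = closedPoint R := by
  refine PrimeSpectrum.ext ?_
  have key : ∀ I : Ideal Ω, I ≠ ⊤ → I.comap (τ.comp (residue R)) = maximalIdeal R := fun I hI => by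
    rw [(Ideal.eq_bot_or_top I).resolve_right hI, ← RingHom.ker_eq_comap_bot,
      RingHom.ker_comp_of_injective _ τ.injective, ker_residue]
  exact key a.asIdeal a.2.ne_top

/-- every geometric point of a scheme comes from a strict localization -/
theorem exists_strict_point {X : Scheme.{u}} {Ω : Type u} [Field Ω] [IsSepClosed Ω]
    (ξ : Spec (CommRingCat.of Ω) ⟶ X) :
    ∃ (x : X) (R : Type u) (_ : CommRing R) (_ : IsLocalRing R) (_ : Algebra (X.presheaf.stalk x) R)
      (_ : IsLocalHom (algebraMap (X.presheaf.stalk x) R)) (_ : Hensel.IsStrictHenselization (X.presheaf.stalk x) R)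
      (τ : ResidueField R →+* Ω), resPt R τ ≫ Hens2.specOf X x R = ξ := by
  obtain ⟨⟨x, φ⟩, rfl⟩ := (Scheme.SpecToEquivOfField Ω X).symm.surjective ξ
  let A : Type u := X.presheaf.stalk x
  haveI : IsLocalRing A := inferInstanceAs (IsLocalRing (X.presheaf.stalk x))
  obtain ⟨R, _, _, _, hloc, hR⟩ := S0537.result A
  haveI := hloc
  haveI := hR
  letI : Algebra (ResidueField A) Ω := φ.hom.toAlgebra
  haveI : Algebra.IsSeparable (ResidueField A) (ResidueField R) :=
    (Hensel.IsStrictHenselization.isSepClosure (R := A) (S := R)).separable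
  let τ : ResidueField R →ₐ[ResidueField A] Ω := IsSepClosed.lift
  refine ⟨x, R, inferInstance, inferInstance, inferInstance, hloc, hR, τ.toRingHom, ?_⟩
  rw [Scheme.SpecToEquivOfField]
  show _ = Spec.map φ ≫ X.fromSpecResidueField x
  rw [Scheme.fromSpecResidueField, resPt, Hens2.specOf, ← Category.assoc, ← Category.assoc, ← Spec.map_comp,
    ← Spec.map_comp]
  refine congrArg (fun h => Spec.map h ≫ _) ?_
  ext a
  exact τ.commutes (residue A a)

end Groth.Agent.EtBC
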