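import Groth.Agent.EtBC.BcStalk
import Groth.Agent.EtBC.ViaTools
import Groth.Agent.EtBC.StrictPts
import Groth.Agent.EtLimit.StrictSys
import Groth.Prelude.Def_Hens2

/-! stalks of the base change morphism in terms of strict localizations -/

set_option autoImplicit false
set_option linter.style.haveILetI false
universe u

open CategoryTheory CategoryTheory.Limits AlgebraicGeometry Opposite IsLocalRing

namespace Groth.Agent.EtBC

open Groth.Agent.EtLimit Groth.Agent.EtFound

set_option backward.isDefEq.respectTransparency.types false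

section

variable {X S Y T : Scheme.{u}} {f : X ⟶ S} {g : T ⟶ S} [QuasiCompact g] [QuasiSeparated g] {h : Y ⟶ X}
  {e : Y ⟶ T} (c : IsPullback e h g f) [PreservesFiniteLimits (EtCoh.pull e)]
  (x : X) (RS : Type u) [CommRing RS] [IsLocalRing RS] [Algebra (S.presheaf.stalk (f.base x)) RS]
  [IsLocalHom (algebraMap (S.presheaf.stalk (f.base x)) RS)]
  [Hensel.IsStrictHenselization (S.presheaf.stalk (f.base x)) RS]
  (RX : Type u) [CommRing RX] [IsLocalRing RX] [Algebra (X.presheaf.stalk x) RX]
  [IsLocalHom (algebraMap (X.presheaf.stalk x) RX)] [Hensel.IsStrictHenselization (X.presheaf.stalk x) RX]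
  (ψ : RS →+* RX) [IsLocalHom ψ]
  (hψ : ψ.comp (algebraMap (S.presheaf.stalk (f.base x)) RS) =
    (algebraMap (X.presheaf.stalk x) RX).comp (f.stalkMap x).hom)

omit [IsLocalHom (algebraMap (S.presheaf.stalk (f.base x)) RS)]
  [Hensel.IsStrictHenselization (S.presheaf.stalk (f.base x)) RS] [IsLocalHom (algebraMap (X.presheaf.stalk x) RX)]
  [Hensel.IsStrictHenselization (X.presheaf.stalk x) RX] [IsLocalHom ψ] [QuasiCompact g] [QuasiSeparated g]
  [IsLocalRing RS] [IsLocalRing RX] in
include hψ in
theorem specOf_map : Spec.map (CommRingCat.ofHom ψ) ≫ Hens2.specOf S (f.base x) RS =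
    Hens2.specOf X x RX ≫ f := by
  have e : CommRingCat.ofHom (algebraMap (S.presheaf.stalk (f.base x)) RS) ≫ CommRingCat.ofHom ψ =
      f.stalkMap x ≫ CommRingCat.ofHom (algebraMap (X.presheaf.stalk x) RX) := CommRingCat.hom_ext hψ
  rw [Hens2.specOf, Hens2.specOf, ← Category.assoc, ← Spec.map_comp, e, Spec.map_comp, Category.assoc,
    Category.assoc, Scheme.SpecMap_stalkMap_fromSpecStalk]
  rfl

omit [QuasiCompact g] [QuasiSeparated g] [IsLocalHom ψ] in
theorem resPt_map [IsLocalHom ψ] {Ω : Type u} [Field Ω] (τ : ResidueField RX →+* Ω) :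
    resPt RX τ ≫ Spec.map (CommRingCat.ofHom ψ) = resPt RS (τ.comp (ResidueField.map ψ)) := by
  rw [resPt, resPt, ← Spec.map_comp]
  rfl

include hψ in
/-- the stalk of the base change map at a point of a strict localization -/
theorem isIso_stalk_iff_HpullVia {Ω : Type u} [Field Ω] [IsSepClosed Ω] (τ : ResidueField RX →+* Ω)
    (PS PX : Scheme.{u}) (aS : PS ⟶ T) (bS : PS ⟶ Spec (CommRingCat.of RS))
    (hS : IsPullback aS bS g (Hens2.specOf S (f.base x) RS))
    (aX : PX ⟶ T) (bX : PX ⟶ Spec (CommRingCat.of RX))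
    (hX : IsPullback aX bX g (Hens2.specOf X x RX ≫ f))
    (m : PX ⟶ PS) (w : m ≫ aS = aX) (hm : m ≫ bS = bX ≫ Spec.map (CommRingCat.ofHom ψ))
    [PreservesFiniteLimits (EtCoh.pull m)] (F : EtCoh.Ab T) (q : ℕ) :
    IsIso ((EtCoh.stalk (resPt RX τ ≫ Hens2.specOf X x RX)).map (EtBC.bcQ g f h e c.w q F)) ↔
      Function.Bijective (EtCore.HpullVia m aS aX w F q) := by
  haveI : QuasiCompact h := MorphismProperty.of_isPullback c inferInstance
  haveI : QuasiSeparated h := MorphismProperty.of_isPullback c inferInstance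
  haveI : HenselianLocalRing RS := Hensel.IsStrictHenselization.henselian (S.presheaf.stalk (f.base x))
  haveI : IsSepClosed (ResidueField RS) :=
    (Hensel.IsStrictHenselization.isSepClosure (R := S.presheaf.stalk (f.base x)) (S := RS)).sep_closed
  haveI : HenselianLocalRing RX := Hensel.IsStrictHenselization.henselian (X.presheaf.stalk x)
  haveI : IsSepClosed (ResidueField RX) :=
    (Hensel.IsStrictHenselization.isSepClosure (R := X.presheaf.stalk x) (S := RX)).sep_closed
  obtain ⟨P⟩ := nonempty_etPres_specOf S (f.base x) RS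
  obtain ⟨P'⟩ := nonempty_etPres_specOf X x RX
  let π := Hens2.specOf S (f.base x) RS
  let π' := Hens2.specOf X x RX
  let m₀ := Spec.map (CommRingCat.ofHom ψ)
  have hm₀ : m₀ ≫ π = π' ≫ f := specOf_map x RS RX ψ hψ
  let u := pullback.fst h π' ≫ e
  have hl : u ≫ g = (pullback.snd h π' ≫ m₀) ≫ π := by
    simp only [u, Category.assoc, hm₀, c.w, ← pullback.condition_assoc]
  let mm : pullback h π' ⟶ pullback g π := pullback.lift u (pullback.snd h π' ≫ m₀) hl
  have hmmu : mm ≫ pullback.fst g π = u := pullback.lift_fst _ _ _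
  haveI : PreservesFiniteLimits (EtCoh.pull mm) := pull_preservesFiniteLimits _
  refine (isIso_stalk_bcQ_iff (z := resPt RS (τ.comp (ResidueField.map ψ))) (z' := resPt RX τ) c.w rfl hmmu
    (liftsUniquely_strict RS π _ (resPt_base RS _)) (liftsUniquely_strict RX π' _ (resPt_base RX _))
    (m₀ := m₀) hm₀ (resPt_map RS RX ψ τ) (pullback.lift_snd _ _ _) P P' F q).trans ?_
  let i : PS ≅ pullback g π := hS.isoPullback
  have hX' : IsPullback u (pullback.snd h π') g (π' ≫ f) := (IsPullback.of_hasPullback h π').paste_horiz c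
  let j : PX ≅ pullback h π' := hX.isoIsPullback _ _ hX'
  haveI : PreservesFiniteLimits (EtCoh.pull i.hom) := pull_preservesFiniteLimits _
  haveI : PreservesFiniteLimits (EtCoh.pull j.hom) := pull_preservesFiniteLimits _
  haveI : PreservesFiniteLimits (EtCoh.pull (j.hom ≫ mm)) := pull_preservesFiniteLimits _
  have j1 : j.hom ≫ u = aX := hX.isoIsPullback_hom_fst _ _ hX'
  have j2 : j.hom ≫ pullback.snd h π' = bX := hX.isoIsPullback_hom_snd _ _ hX'
  have hjm : j.hom ≫ mm = m ≫ i.hom := by
    apply pullback.hom_ext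
    · rw [Category.assoc, hmmu, j1, Category.assoc, hS.isoPullback_hom_fst, w]
    · rw [Category.assoc, pullback.lift_snd, Category.assoc, hS.isoPullback_hom_snd, hm, ← Category.assoc, j2]
  refine (hVia_bijective_iff mm (pullback.fst g π) u hmmu m aS aX w i j hS.isoPullback_hom_fst j1 hjm F q).trans ?_
  exact iff_of_eq (congrArg Function.Bijective (funext fun ξ => (HpullVia_eq m aS aX w F q ξ).symm))

end

end Groth.Agent.EtBC
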