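import Groth.Prelude.Def_EtBC2
import Groth.Agent.RDerBC.Iso

/-! naturality of the edge maps of étale higher direct images, and their connecting maps -/

set_option autoImplicit false
set_option linter.style.haveILetI false
universe u

open CategoryTheory CategoryTheory.Limits AlgebraicGeometry Opposite

namespace Groth.Agent.EtBC

theorem chain2 {C : Type*} [Category* C] {P0 P1 Q0 Q1 R0 R1 : C} {d1 : P0 ⟶ P1} {d2 : Q0 ⟶ Q1}
    {d3 : R0 ⟶ R1} {a0 : P0 ⟶ Q0} {a1 : P1 ⟶ Q1} {b0 : Q0 ⟶ R0} {b1 : Q1 ⟶ R1}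
    (ha : d1 ≫ a1 = a0 ≫ d2) (hb : d2 ≫ b1 = b0 ≫ d3) : d1 ≫ a1 ≫ b1 = (a0 ≫ b0) ≫ d3 := by
  rw [reassoc_of% ha, hb, Category.assoc]

set_option backward.isDefEq.respectTransparency.types false
set_option maxHeartbeats 1000000

section leray

variable {X Y S : Scheme.{u}} (a : X ⟶ Y) (b : Y ⟶ S)

theorem lerayEdgeIn_natural [PreservesFiniteLimits (EtCoh.pull a)] (q : ℕ) {F G : EtCoh.Ab X} (m : F ⟶ G) :
    (EtCoh.Rpush b q).map ((EtCoh.push a).map m) ≫ EtBC.lerayEdgeIn a b q G =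
      EtBC.lerayEdgeIn a b q F ≫ (EtCoh.Rpush (a ≫ b) q).map m :=
  chain2 (RDerBC.edgeIn_natural (EtCoh.push a) (EtCoh.push b) q m)
    ((RDer.rightDerivedIso (EtCoh.pushComp b a) q).hom.naturality m)

theorem lerayEdgeIn_δ [PreservesFiniteLimits (EtCoh.pull a)] {E : ShortComplex (EtCoh.Ab X)} (hE : E.ShortExact)
    (hE' : (E.map (EtCoh.push a)).ShortExact) (n₀ n₁ : ℕ) (h : n₀ + 1 = n₁) :
    (SESResLib.derivedLES (EtCoh.push b)).δ (E.map (EtCoh.push a)) hE' n₀ n₁ h ≫ EtBC.lerayEdgeIn a b n₁ E.X₁ =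
      EtBC.lerayEdgeIn a b n₀ E.X₃ ≫ (SESResLib.derivedLES (EtCoh.push (a ≫ b))).δ E hE n₀ n₁ h :=
  chain2 (RDerBC.edgeIn_δ (EtCoh.push a) (EtCoh.push b) hE hE' n₀ n₁ h)
    (RDerBC.rightDerived_δ (EtCoh.pushComp b a).hom hE n₀ n₁ h)

theorem lerayEdgeOut_natural (q : ℕ) {F G : EtCoh.Ab X} (m : F ⟶ G) :
    (EtCoh.Rpush (a ≫ b) q).map m ≫ EtBC.lerayEdgeOut a b q G =
      EtBC.lerayEdgeOut a b q F ≫ (EtCoh.push b).map ((EtCoh.Rpush a q).map m) :=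
  chain2 ((RDer.rightDerivedIso (EtCoh.pushComp b a) q).inv.naturality m)
    (RDerBC.edgeOut_natural (EtCoh.push a) (EtCoh.push b) q m)

theorem lerayEdgeOut_δ {E : ShortComplex (EtCoh.Ab X)} (hE : E.ShortExact) (n₀ n₁ : ℕ) (h : n₀ + 1 = n₁) :
    (SESResLib.derivedLES (EtCoh.push (a ≫ b))).δ E hE n₀ n₁ h ≫ EtBC.lerayEdgeOut a b n₁ E.X₁ =
      EtBC.lerayEdgeOut a b n₀ E.X₃ ≫ (EtCoh.push b).map ((SESResLib.derivedLES (EtCoh.push a)).δ E hE n₀ n₁ h) :=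
  chain2 (RDerBC.rightDerived_δ (EtCoh.pushComp b a).inv hE n₀ n₁ h)
    (RDerBC.edgeOut_δ (EtCoh.push a) (EtCoh.push b) hE n₀ n₁ h)

end leray

end Groth.Agent.EtBC
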