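import Groth.Agent.EtLimit.StalkPush

/-! the comparison of stalks of higher direct images with cohomology over strict localizations, with its properties -/

set_option autoImplicit false
set_option linter.style.haveILetI false
universe w v u

open CategoryTheory CategoryTheory.Limits AlgebraicGeometry Opposite

namespace Groth.Agent.EtBC

open Groth.Agent.EtLimit Groth.Agent.EtFound SiteBase

section

variable {A : Type u} [Category.{v} A] [Abelian A] [EnoughInjectives A]

/-- an isomorphism of effaced connected sequences extending a given one -/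
theorem connSeq_exists_iso {H G : ConnSeq.{w} A} (hH : H.Effaced) (hG : G.Effaced) (e0 : H.F 0 ≅ G.F 0) :
    ∃ e : ∀ p, H.F p ≅ G.F p, e 0 = e0 ∧ ∀ (S : ShortComplex A) (hS : S.ShortExact) (p : ℕ),
      H.δ hS p ≫ (e (p + 1)).hom.app S.X₁ = (e p).hom.app S.X₃ ≫ G.δ hS p := by
  obtain ⟨e, he0, he⟩ := ConnSeq.exists_hom (G := G) hH e0.hom
  obtain ⟨d, hd0, hd⟩ := ConnSeq.exists_hom (G := H) hG e0.inv
  have c1 : ∀ p, e p ≫ d p = 𝟙 _ := ConnSeq.hom_unique hH (fun p => e p ≫ d p) (fun p => 𝟙 _)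
    (fun S hS p => by
      rw [NatTrans.comp_app, NatTrans.comp_app, ← Category.assoc, he S hS p, Category.assoc, hd S hS p,
        Category.assoc])
    (fun S hS p => by rw [NatTrans.id_app, NatTrans.id_app, Category.comp_id, Category.id_comp])
    (by simp [he0, hd0])
  have c2 : ∀ p, d p ≫ e p = 𝟙 _ := ConnSeq.hom_unique hG (fun p => d p ≫ e p) (fun p => 𝟙 _)
    (fun S hS p => by
      rw [NatTrans.comp_app, NatTrans.comp_app, ← Category.assoc, hd S hS p, Category.assoc, he S hS p,
        Category.assoc])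
    (fun S hS p => by rw [NatTrans.id_app, NatTrans.id_app, Category.comp_id, Category.id_comp])
    (by simp [he0, hd0])
  exact ⟨fun p => ⟨e p, d p, c1 p, c2 p⟩, Iso.ext he0, he⟩

end

set_option backward.isDefEq.respectTransparency.types false

variable {X S T : Scheme.{u}}

/-- degree zero cohomology is the group of global sections -/
noncomputable def h0Hom (T : Scheme.{u}) : EtCoh.HF T 0 ⟶ EtCore.gsec T where
  app F := AddCommGrpCat.ofHom (AddMonoidHom.mk' (hSec F) (hSec_add F))
  naturality _ _ g := AddCommGrpCat.hom_ext (AddMonoidHom.ext fun ξ => hSec_hmap g ξ)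

theorem h0Hom_apply (F : EtCoh.Ab T) (ξ : EtCoh.H T F 0) : (h0Hom T).app F ξ = hSec F ξ := rfl

theorem isIso_h0Hom (T : Scheme.{u}) : IsIso (h0Hom T) := by
  haveI : ∀ F, IsIso ((h0Hom T).app F) := fun F => (ConcreteCategory.isIso_iff_bijective _).2 (hSec_bijective F)
  exact NatIso.isIso_of_isIso_app _

variable (f : X ⟶ S) [QuasiCompact f] [QuasiSeparated f] {π : T ⟶ S} (P : EtPres π)
  {Ω : Type u} [Field Ω] [IsSepClosed Ω] {z : Spec (CommRingCat.of Ω) ⟶ T}

/-- the connected sequence of stalks of higher direct images -/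
noncomputable def stalkSeq (z : Spec (CommRingCat.of Ω) ⟶ S) [(EtCoh.stalk z).Additive] : ConnSeq.{u + 1} (EtCoh.Ab X) :=
  derivedSeq (EtCoh.push f) (EtCoh.stalk z)

/-- the degree zero germ formula -/
def GermFormula (hz : LiftsUniquely π z) (e0 : EtCoh.Rpush f 0 ⋙ EtCoh.stalk (z ≫ π) ⟶
    EtCoh.pull (pullback.fst f π) ⋙ EtCoh.HF (pullback f π) 0) : Prop :=
  ∀ (F : EtCoh.Ab X) (V : S.Etale) (v : (Scheme.pointSmallEtale (z ≫ π)).fiber.obj V)
    (s : F.obj.obj (op ((EtCoh.bc f).obj V))),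
    hSec ((EtCoh.pull (pullback.fst f π)).obj F) (e0.app F ((EtCoh.stalk (z ≫ π)).map ((EtCoh.push f).toRightDerivedZero.app F)
      ((Scheme.pointSmallEtale (z ≫ π)).toPresheafFiber V v ((EtCoh.push f).obj F).obj s))) =
      secAt (pullback.fst f π) ((EtCoh.bc f).obj V) (nbLift f V (nbMap hz V v) (nbMap_hom hz V v))
        (nbLift_hom f V _ _) F s

include P in
/-- the comparison in all degrees, natural, compatible with connecting maps, with the germ formula -/
theorem exists_stalk_rpush [(EtCoh.stalk (z ≫ π)).Additive] [PreservesFiniteLimits (EtCoh.pull (pullback.fst f π))]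
    (hz : LiftsUniquely π z) :
    ∃ e : ∀ n, EtCoh.Rpush f n ⋙ EtCoh.stalk (z ≫ π) ≅ EtCoh.pull (pullback.fst f π) ⋙ EtCoh.HF (pullback f π) n,
      GermFormula f hz (e 0).hom ∧ ∀ (E : ShortComplex (EtCoh.Ab X)) (hE : E.ShortExact) (n : ℕ),
        (stalkSeq f (z ≫ π)).δ hE n ≫ (e (n + 1)).hom.app E.X₁ =
          (e n).hom.app E.X₃ ≫ (pullHSeq (pullback.fst f π)).δ hE n := by
  haveI : PreservesFiniteLimits (EtCoh.push f) :=
    haveI : PreservesLimitsOfSize.{0, 0} (EtCoh.push f) := (EtCoh.pullPushAdj f).rightAdjoint_preservesLimits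
    PreservesLimitsOfSize.preservesFiniteLimits _
  haveI := isIso_h0Hom (pullback f π)
  haveI : ∀ F, IsIso ((stalkPushNat f hz).app F) := fun F => (ConcreteCategory.isIso_iff_bijective _).2
    ⟨stalkPushApp_injective f hz P F, stalkPushApp_surjective f hz P F⟩
  haveI : IsIso (stalkPushNat f hz) := NatIso.isIso_of_isIso_app _
  let e0 : EtCoh.Rpush f 0 ⋙ EtCoh.stalk (z ≫ π) ≅ EtCoh.pull (pullback.fst f π) ⋙ EtCoh.HF (pullback f π) 0 :=
    Functor.isoWhiskerRight (EtCoh.push f).rightDerivedZeroIsoSelf _ ≪≫ asIso (stalkPushNat f hz) ≪≫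
      Functor.isoWhiskerLeft _ (asIso (h0Hom (pullback f π))).symm
  obtain ⟨e, he0, he⟩ := connSeq_exists_iso (derivedSeq_effaced (EtCoh.push f) (EtCoh.stalk (z ≫ π)))
    (pullHSeq_effaced (pullback.fst f π) fun I hI n => subsingleton_H_pull_injective f P I n) e0
  refine ⟨e, ?_, he⟩
  intro F V v s
  rw [he0]
  refine Eq.trans ?_ (stalkPushApp_germ f hz F V v s)
  let x := (Scheme.pointSmallEtale (z ≫ π)).toPresheafFiber V v ((EtCoh.push f).obj F).obj s
  have h1 : (EtCoh.stalk (z ≫ π)).map ((EtCoh.push f).rightDerivedZeroIsoSelf.hom.app F)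
      ((EtCoh.stalk (z ≫ π)).map ((EtCoh.push f).toRightDerivedZero.app F) x) = x := by
    rw [← ConcreteCategory.comp_apply, ← Functor.map_comp]
    erw [(EtCoh.push f).rightDerivedZeroIsoSelf.inv_hom_id_app F]
    rw [CategoryTheory.Functor.map_id]
    rfl
  change hSec _ ((inv (h0Hom (pullback f π))).app _ ((stalkPushNat f hz).app F
    ((EtCoh.stalk (z ≫ π)).map ((EtCoh.push f).rightDerivedZeroIsoSelf.hom.app F) _))) = _
  rw [← h0Hom_apply]
  refine (ConcreteCategory.comp_apply _ _ _).symm.trans ?_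
  rw [← NatTrans.comp_app, IsIso.inv_hom_id]
  exact congrArg (stalkPushApp f hz F) h1

end Groth.Agent.EtBC
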