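import Groth.Agent.EtBC.Paste0
import Groth.Agent.EtBC.BcQ
import Groth.Agent.EtBC.StalkSeq

/-! base change morphisms in higher degrees compose -/

set_option autoImplicit false
set_option linter.style.haveILetI false
universe w u₁ v₁ u₂ v₂ u

open CategoryTheory CategoryTheory.Limits AlgebraicGeometry Opposite

namespace Groth.Agent.EtBC

open Groth.Agent.EtLimit Groth.Agent.EtFound SiteBase

section pre

variable {A : Type u₁} [Category.{v₁} A] [Abelian A] {B : Type u₂} [Category.{v₂} B] [Abelian B]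

/-- a connected sequence composed with an exact functor -/
noncomputable def preSeq (H : ConnSeq.{w} B) (P : A ⥤ B) [P.PreservesZeroMorphisms] [PreservesFiniteLimits P]
    [PreservesFiniteColimits P] : ConnSeq.{w} A where
  F n := P ⋙ H.F n
  δ hS n := H.δ (hS.map_of_exact P) n
  δ_natural hS hS' φ n := H.δ_natural (hS.map_of_exact P) (hS'.map_of_exact P) (P.mapShortComplex.map φ) n
  map_comp_δ hS n := H.map_comp_δ (hS.map_of_exact P) n

end pre

theorem map_sq' {C D : Type*} [Category* C] [Category* D] (G : C ⥤ D) {A B A' B' : C} {a : A ⟶ B} {b : B ⟶ B'}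
    {a' : A ⟶ A'} {b' : A' ⟶ B'} (h : a ≫ b = a' ≫ b') : G.map a ≫ G.map b = G.map a' ≫ G.map b' := by
  rw [← G.map_comp, h, G.map_comp]

section unique

universe u₃ v₃ u₄ v₄

variable {A : Type u₁} [Category.{v₁} A] [Abelian A] [EnoughInjectives A] {B : Type u₂} [Category.{v₂} B] [Abelian B]
  {A' : Type u₃} [Category.{v₃} A'] [Abelian A'] [EnoughInjectives A']
  {B' : Type u₄} [Category.{v₄} B'] [Abelian B']
  (Φ : A ⥤ B) [Φ.Additive] (L : B ⥤ B') [L.Additive] [PreservesFiniteLimits L] [PreservesFiniteColimits L]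
  (P : A ⥤ A') [P.PreservesZeroMorphisms] [PreservesFiniteLimits P] [PreservesFiniteColimits P]
  (Φ' : A' ⥤ B') [Φ'.Additive] (R : B' ⥤ AddCommGrpCat.{w}) [R.Additive] [PreservesFiniteLimits R]
  [PreservesFiniteColimits R]

/-- compatibility of a family with the connecting maps -/
def CommutesWithδ (a : ∀ n, Φ.rightDerived n ⋙ L ⟶ P ⋙ Φ'.rightDerived n) : Prop :=
  ∀ (E : ShortComplex A) (hE : E.ShortExact) (n : ℕ),
    L.map ((SESResLib.derivedLES Φ).δ E hE n (n + 1) rfl) ≫ (a (n + 1)).app E.X₁ =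
      (a n).app E.X₃ ≫ (SESResLib.derivedLES Φ').δ (E.map P) (hE.map_of_exact P) n (n + 1) rfl

/-- such families are determined by degree zero, after an exact functor to groups -/
theorem family_unique (a b : ∀ n, Φ.rightDerived n ⋙ L ⟶ P ⋙ Φ'.rightDerived n)
    (ha : CommutesWithδ Φ L P Φ' a) (hb : CommutesWithδ Φ L P Φ' b) (h0 : ∀ X, (a 0).app X = (b 0).app X)
    (q : ℕ) (X : A) : R.map ((a q).app X) = R.map ((b q).app X) := by
  haveI : (L ⋙ R).Additive := inferInstance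
  have h := ConnSeq.hom_unique (G := preSeq (derivedSeq Φ' R) P) (derivedSeq_effaced Φ (L ⋙ R))
    (fun n => Functor.whiskerRight (a n) R) (fun n => Functor.whiskerRight (b n) R)
    (fun E hE n => map_sq' R (ha E hE n)) (fun E hE n => map_sq' R (hb E hE n))
    (by ext Y : 2; exact congrArg R.map (h0 Y)) q
  exact congrArg (fun t => NatTrans.app t X) h

end unique

theorem chain4 {C : Type*} [Category* C] {P0 P1 Q0 Q1 R0 R1 T0 T1 U0 U1 : C} {d1 : P0 ⟶ P1} {d2 : Q0 ⟶ Q1}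
    {d3 : R0 ⟶ R1} {d4 : T0 ⟶ T1} {d5 : U0 ⟶ U1} {a0 : P0 ⟶ Q0} {a1 : P1 ⟶ Q1} {b0 : Q0 ⟶ R0} {b1 : Q1 ⟶ R1}
    {c0 : R0 ⟶ T0} {c1 : R1 ⟶ T1} {e0 : T0 ⟶ U0} {e1 : T1 ⟶ U1} (ha : d1 ≫ a1 = a0 ≫ d2) (hb : d2 ≫ b1 = b0 ≫ d3)
    (hc : d3 ≫ c1 = c0 ≫ d4) (he : d4 ≫ e1 = e0 ≫ d5) :
    d1 ≫ a1 ≫ b1 ≫ c1 ≫ e1 = (a0 ≫ b0 ≫ c0 ≫ e0) ≫ d5 := by
  rw [reassoc_of% ha, reassoc_of% hb, reassoc_of% hc, he]
  simp

theorem inv_app_comp {C D : Type*} [Category* C] [Category* D] {G H : C ⥤ D} (i : G ≅ H) (x : C) {M : D}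
    {c : H.obj x ⟶ M} {r : G.obj x ⟶ M} (h : i.hom.app x ≫ c = r) : i.inv.app x ≫ r = c := by
  rw [← h, Iso.inv_hom_id_app_assoc]

set_option backward.isDefEq.respectTransparency.types false
set_option maxHeartbeats 1000000

variable {X S X' S' X'' S'' : Scheme.{u}} {f : X ⟶ S} {g : S' ⟶ S} {f' : X' ⟶ S'} {g' : X' ⟶ X}
  (w : g' ≫ f = f' ≫ g) {g₂ : S'' ⟶ S'} {f'' : X'' ⟶ S''} {g₂' : X'' ⟶ X'} (w₂ : g₂' ≫ f' = f'' ≫ g₂)
  {gc : S'' ⟶ S} {gc' : X'' ⟶ X} (hg : g₂ ≫ g = gc) (hg' : g₂' ≫ g' = gc') (wc : gc' ≫ f = f'' ≫ gc)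
  [PreservesFiniteLimits (EtCoh.pull g')] [PreservesFiniteLimits (EtCoh.pull g₂')]
  [PreservesFiniteLimits (EtCoh.pull gc')]

/-- the composite of two base change morphisms -/
noncomputable def pasteNat (q : ℕ) : EtCoh.Rpush f q ⋙ EtCoh.pull gc ⟶ EtCoh.pull gc' ⋙ EtCoh.Rpush f'' q where
  app F := (θPull g₂ g gc hg).inv.app ((EtCoh.Rpush f q).obj F) ≫
    (EtCoh.pull g₂).map (EtBC.bcQ f g f' g' w q F) ≫ EtBC.bcQ f' g₂ f'' g₂' w₂ q ((EtCoh.pull g').obj F) ≫
      (EtCoh.Rpush f'' q).map ((θPull g₂' g' gc' hg').hom.app F)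
  naturality F G a :=
    chain4 ((θPull g₂ g gc hg).inv.naturality ((EtCoh.Rpush f q).map a))
      (map_sq' (EtCoh.pull g₂) (bcQ_naturality f g f' g' w q a))
      (bcQ_naturality f' g₂ f'' g₂' w₂ q ((EtCoh.pull g').map a))
      (map_sq' (EtCoh.Rpush f'' q) ((θPull g₂' g' gc' hg').hom.naturality a))

theorem pasteNat_app (q : ℕ) (F : EtCoh.Ab X) : (pasteNat w w₂ hg hg' q).app F =
    (θPull g₂ g gc hg).inv.app ((EtCoh.Rpush f q).obj F) ≫
      (EtCoh.pull g₂).map (EtBC.bcQ f g f' g' w q F) ≫ EtBC.bcQ f' g₂ f'' g₂' w₂ q ((EtCoh.pull g').obj F) ≫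
        (EtCoh.Rpush f'' q).map ((θPull g₂' g' gc' hg').hom.app F) := rfl

/-- the comparison of the inverse images of a short complex -/
noncomputable def θShort (E : ShortComplex (EtCoh.Ab X)) :
    (E.map (EtCoh.pull g')).map (EtCoh.pull g₂') ⟶ E.map (EtCoh.pull gc') where
  τ₁ := (θPull g₂' g' gc' hg').hom.app E.X₁
  τ₂ := (θPull g₂' g' gc' hg').hom.app E.X₂
  τ₃ := (θPull g₂' g' gc' hg').hom.app E.X₃
  comm₁₂ := ((θPull g₂' g' gc' hg').hom.naturality E.f).symm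
  comm₂₃ := ((θPull g₂' g' gc' hg').hom.naturality E.g).symm

theorem pasteNat_δ {E : ShortComplex (EtCoh.Ab X)} (hE : E.ShortExact) (n₀ n₁ : ℕ) (h : n₀ + 1 = n₁) :
    (EtCoh.pull gc).map ((SESResLib.derivedLES (EtCoh.push f)).δ E hE n₀ n₁ h) ≫ (pasteNat w w₂ hg hg' n₁).app E.X₁ =
      (pasteNat w w₂ hg hg' n₀).app E.X₃ ≫
        (SESResLib.derivedLES (EtCoh.push f'')).δ (E.map (EtCoh.pull gc')) (hE.map_of_exact (EtCoh.pull gc'))
          n₀ n₁ h := by
  have hE' := hE.map_of_exact (EtCoh.pull g')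
  have hE'' := hE'.map_of_exact (EtCoh.pull g₂')
  exact chain4 ((θPull g₂ g gc hg).inv.naturality ((SESResLib.derivedLES (EtCoh.push f)).δ E hE n₀ n₁ h))
    (map_sq' (EtCoh.pull g₂) (bcQ_δ f g f' g' w hE hE' n₀ n₁ h))
    (bcQ_δ f' g₂ f'' g₂' w₂ hE' hE'' n₀ n₁ h)
    ((SESResLib.derivedLES (EtCoh.push f'')).δ_natural hE'' (hE.map_of_exact (EtCoh.pull gc'))
      (θShort hg' E) n₀ n₁ h).symm

/-- degree zero -/
theorem pasteNat_zero (F : EtCoh.Ab X) :
    (pasteNat w w₂ hg hg' 0).app F = EtBC.bcQ f gc f'' gc' wc 0 F := by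
  refine (cancel_epi ((EtCoh.pull gc).map ((EtCoh.push f).toRightDerivedZero.app F))).1 ?_
  refine (chain4 ((θPull g₂ g gc hg).inv.naturality ((EtCoh.push f).toRightDerivedZero.app F))
    (map_sq' (EtCoh.pull g₂) (EtBC.bcQ_zero_compat f g f' g' w F))
    (EtBC.bcQ_zero_compat f' g₂ f'' g₂' w₂ ((EtCoh.pull g').obj F))
    ((EtCoh.push f'').toRightDerivedZero.naturality ((θPull g₂' g' gc' hg').hom.app F)).symm).trans ?_
  refine (congrArg (· ≫ (EtCoh.push f'').toRightDerivedZero.app ((EtCoh.pull gc').obj F))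
    (inv_app_comp (θPull g₂ g gc hg) ((EtCoh.push f).obj F) (baseChange0_paste w w₂ hg hg' wc F))).trans ?_
  exact (EtBC.bcQ_zero_compat f gc f'' gc' wc F).symm

/-- base change morphisms compose, in every degree -/
theorem bcQ_paste (q : ℕ) (F : EtCoh.Ab X) :
    EtBC.bcQ f gc f'' gc' wc q F = (pasteNat w w₂ hg hg' q).app F := by
  refine EtFound.eq_of_stalks _ _ fun Ω _ _ ξ => ?_
  haveI : (EtCoh.stalk ξ).Additive := Functor.additive_of_preserves_binary_products _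
  haveI : PreservesFiniteLimits (EtCoh.pull gc) := pull_preservesFiniteLimits _
  haveI : PreservesFiniteColimits (EtCoh.pull gc) :=
    haveI : PreservesColimitsOfSize.{0, 0} (EtCoh.pull gc) := (EtCoh.pullPushAdj gc).leftAdjoint_preservesColimits
    PreservesColimitsOfSize.preservesFiniteColimits _
  haveI : PreservesFiniteColimits (EtCoh.pull gc') :=
    haveI : PreservesColimitsOfSize.{0, 0} (EtCoh.pull gc') := (EtCoh.pullPushAdj gc').leftAdjoint_preservesColimits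
    PreservesColimitsOfSize.preservesFiniteColimits _
  haveI : (EtCoh.pull gc).Additive := Functor.additive_of_preserves_binary_products _
  exact family_unique (EtCoh.push f) (EtCoh.pull gc) (EtCoh.pull gc') (EtCoh.push f'') (EtCoh.stalk ξ)
    (bcQNat f gc f'' gc' wc) (pasteNat w w₂ hg hg')
    (fun E hE n => bcQ_δ f gc f'' gc' wc hE (hE.map_of_exact (EtCoh.pull gc')) n (n + 1) rfl)
    (fun E hE n => pasteNat_δ w w₂ hg hg' hE n (n + 1) rfl)
    (fun P => (pasteNat_zero w w₂ hg hg' wc P).symm) q F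

include w w₂ hg hg' in
/-- a composite of isomorphic base change morphisms is one -/
theorem isIso_bcQ_comp (q : ℕ) (F : EtCoh.Ab X) (h1 : IsIso (EtBC.bcQ f g f' g' w q F))
    (h2 : IsIso (EtBC.bcQ f' g₂ f'' g₂' w₂ q ((EtCoh.pull g').obj F))) :
    IsIso (EtBC.bcQ f gc f'' gc' wc q F) := by
  rw [bcQ_paste w w₂ hg hg' wc q F, pasteNat_app]
  infer_instance

end Groth.Agent.EtBC
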