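import Groth.Agent.EtBC.VPaste0
import Groth.Agent.EtBC.Paste
import Groth.Agent.EtBC.Leray
import Groth.Agent.SiteBase.LerayTop

/-! stacking of base change morphisms in higher degrees -/

set_option autoImplicit false
set_option linter.style.haveILetI false
universe w u₁ v₁ u₂ v₂ u₃ v₃ u₄ v₄ u₅ v₅ u

open CategoryTheory CategoryTheory.Limits AlgebraicGeometry Opposite

namespace Groth.Agent.EtBC

open Groth.Agent.EtLimit Groth.Agent.EtFound SiteBase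

theorem chain3 {C : Type*} [Category* C] {P0 P1 Q0 Q1 R0 R1 T0 T1 : C} {d1 : P0 ⟶ P1} {d2 : Q0 ⟶ Q1}
    {d3 : R0 ⟶ R1} {d4 : T0 ⟶ T1} {a0 : P0 ⟶ Q0} {a1 : P1 ⟶ Q1} {b0 : Q0 ⟶ R0} {b1 : Q1 ⟶ R1}
    {c0 : R0 ⟶ T0} {c1 : R1 ⟶ T1} (ha : d1 ≫ a1 = a0 ≫ d2) (hb : d2 ≫ b1 = b0 ≫ d3) (hc : d3 ≫ c1 = c0 ≫ d4) :
    d1 ≫ a1 ≫ b1 ≫ c1 = (a0 ≫ b0 ≫ c0) ≫ d4 := by
  rw [reassoc_of% ha, reassoc_of% hb, hc]
  simp

theorem inv_sq {C : Type*} [Category* C] {P0 P1 Q0 Q1 : C} {d : P0 ⟶ P1} {d' : Q0 ⟶ Q1} {e0 : P0 ⟶ Q0}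
    {e1 : P1 ⟶ Q1} [IsIso e0] [IsIso e1] (h : d ≫ e1 = e0 ≫ d') : d' ≫ inv e1 = inv e0 ≫ d := by
  simp [IsIso.eq_inv_comp, ← reassoc_of% h]

theorem deg0_inv {C : Type*} [Category* C] {P0 P1 Q0 Q1 R : C} {i : P0 ⟶ Q0} [IsIso i] {t : Q0 ⟶ Q1} [Epi t]
    {E : P1 ⟶ Q1} [IsIso E] {tb : P0 ⟶ P1} (h : tb ≫ E = i ≫ t) {r : P1 ⟶ R} {l : Q1 ⟶ R}
    (h' : tb ≫ r = i ≫ t ≫ l) : inv E ≫ r = l := by
  refine (cancel_epi (i ≫ t)).1 ?_
  simp [Category.assoc, ← h', ← reassoc_of% h]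

section unique

variable {A : Type u₁} [Category.{v₁} A] [Abelian A] [EnoughInjectives A] {B : Type u₂} [Category.{v₂} B] [Abelian B]
  {A' : Type u₃} [Category.{v₃} A'] [Abelian A'] [EnoughInjectives A']
  {B₀ : Type u₅} [Category.{v₅} B₀] [Abelian B₀]
  {B' : Type u₄} [Category.{v₄} B'] [Abelian B']
  (Φ : A ⥤ B) [Φ.Additive] (L : B ⥤ B') [L.Additive] [PreservesFiniteLimits L] [PreservesFiniteColimits L]
  (P : A ⥤ A') [P.PreservesZeroMorphisms] [PreservesFiniteLimits P] [PreservesFiniteColimits P]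
  (Φ' : A' ⥤ B₀) [Φ'.Additive] (Q : B₀ ⥤ B') [Q.Additive] (R : B' ⥤ AddCommGrpCat.{w}) [R.Additive]
  [PreservesFiniteLimits R] [PreservesFiniteColimits R]

/-- families of maps out of derived functors commuting with connecting maps are determined by degree zero -/
theorem family_unique₂ (a b : ∀ n, Φ.rightDerived n ⋙ L ⟶ P ⋙ Φ'.rightDerived n ⋙ Q)
    (ha : ∀ (E : ShortComplex A) (hE : E.ShortExact) (n : ℕ),
      L.map ((SESResLib.derivedLES Φ).δ E hE n (n + 1) rfl) ≫ (a (n + 1)).app E.X₁ =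
        (a n).app E.X₃ ≫ Q.map ((SESResLib.derivedLES Φ').δ (E.map P) (hE.map_of_exact P) n (n + 1) rfl))
    (hb : ∀ (E : ShortComplex A) (hE : E.ShortExact) (n : ℕ),
      L.map ((SESResLib.derivedLES Φ).δ E hE n (n + 1) rfl) ≫ (b (n + 1)).app E.X₁ =
        (b n).app E.X₃ ≫ Q.map ((SESResLib.derivedLES Φ').δ (E.map P) (hE.map_of_exact P) n (n + 1) rfl))
    (h0 : ∀ X, (a 0).app X = (b 0).app X) (q : ℕ) (X : A) : R.map ((a q).app X) = R.map ((b q).app X) := by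
  haveI : (L ⋙ R).Additive := inferInstance
  haveI : (Q ⋙ R).Additive := inferInstance
  have h := ConnSeq.hom_unique (G := preSeq (derivedSeq Φ' (Q ⋙ R)) P) (derivedSeq_effaced Φ (L ⋙ R))
    (fun n => Functor.whiskerRight (a n) R) (fun n => Functor.whiskerRight (b n) R)
    (fun E hE n => map_sq' R (ha E hE n)) (fun E hE n => map_sq' R (hb E hE n))
    (by ext Y : 2; exact congrArg R.map (h0 Y)) q
  exact congrArg (fun t => NatTrans.app t X) h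

end unique

set_option backward.isDefEq.respectTransparency.types false
set_option maxHeartbeats 1000000

theorem baseChange0_natural {X S X' S' : Scheme.{u}} {f : X ⟶ S} {g : S' ⟶ S} {f' : X' ⟶ S'} {g' : X' ⟶ X}
    (w : g' ≫ f = f' ≫ g) {F G : EtCoh.Ab X} (m : F ⟶ G) :
    (EtCoh.pull g).map ((EtCoh.push f).map m) ≫ EtCoh.baseChange0 f g f' g' w G =
      EtCoh.baseChange0 f g f' g' w F ≫ (EtCoh.push f').map ((EtCoh.pull g').map m) := by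
  unfold EtCoh.baseChange0
  rw [← Adjunction.homEquiv_naturality_left_symm, ← Adjunction.homEquiv_naturality_right_symm]
  refine congrArg _ ?_
  exact chain4 (map_sq' (EtCoh.push f) ((EtCoh.pullPushAdj g').unit.naturality m))
    ((EtCoh.pushComp f g').hom.naturality ((EtCoh.pull g').map m))
    ((EtCoh.pushCongr w).hom.naturality ((EtCoh.pull g').map m))
    ((EtCoh.pushComp g f').inv.naturality ((EtCoh.pull g').map m))

variable {X Y S X' Y' S' : Scheme.{u}} {a : X ⟶ Y} {b : Y ⟶ S} {g : S' ⟶ S} {a' : X' ⟶ Y'} {b' : Y' ⟶ S'}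
  {gX : X' ⟶ X} {gY : Y' ⟶ Y} (wb : gY ≫ b = b' ≫ g) (wa : gX ≫ a = a' ≫ gY)
  (wab : gX ≫ a ≫ b = (a' ≫ b') ≫ g)

/-- the comparison of short complexes -/
noncomputable def bc0Short (E : ShortComplex (EtCoh.Ab X)) :
    (E.map (EtCoh.push a)).map (EtCoh.pull gY) ⟶ (E.map (EtCoh.pull gX)).map (EtCoh.push a') where
  τ₁ := EtCoh.baseChange0 a gY a' gX wa E.X₁
  τ₂ := EtCoh.baseChange0 a gY a' gX wa E.X₂
  τ₃ := EtCoh.baseChange0 a gY a' gX wa E.X₃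
  comm₁₂ := (baseChange0_natural wa E.f).symm
  comm₂₃ := (baseChange0_natural wa E.g).symm

section out

variable [PreservesFiniteLimits (EtCoh.pull gX)] [PreservesFiniteLimits (EtCoh.pull gY)]

/-- `bcQ` of the composite followed by the edge map -/
noncomputable def outL (q : ℕ) :
    EtCoh.Rpush (a ≫ b) q ⋙ EtCoh.pull g ⟶ EtCoh.pull gX ⋙ EtCoh.Rpush a' q ⋙ EtCoh.push b' where
  app F := EtBC.bcQ (a ≫ b) g (a' ≫ b') gX wab q F ≫ EtBC.lerayEdgeOut a' b' q ((EtCoh.pull gX).obj F)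
  naturality _ _ m := chain2 (bcQ_naturality (a ≫ b) g (a' ≫ b') gX wab q m)
    (lerayEdgeOut_natural a' b' q ((EtCoh.pull gX).map m))

/-- the edge map followed by the two base changes -/
noncomputable def outR (q : ℕ) :
    EtCoh.Rpush (a ≫ b) q ⋙ EtCoh.pull g ⟶ EtCoh.pull gX ⋙ EtCoh.Rpush a' q ⋙ EtCoh.push b' where
  app F := (EtCoh.pull g).map (EtBC.lerayEdgeOut a b q F) ≫
    EtCoh.baseChange0 b g b' gY wb ((EtCoh.Rpush a q).obj F) ≫
      (EtCoh.push b').map (EtBC.bcQ a gY a' gX wa q F)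
  naturality _ _ m := chain3 (map_sq' (EtCoh.pull g) (lerayEdgeOut_natural a b q m))
    (baseChange0_natural wb ((EtCoh.Rpush a q).map m))
    (map_sq' (EtCoh.push b') (bcQ_naturality a gY a' gX wa q m))

theorem outL_δ {E : ShortComplex (EtCoh.Ab X)} (hE : E.ShortExact) (hE' : (E.map (EtCoh.pull gX)).ShortExact)
    (n₀ n₁ : ℕ) (h : n₀ + 1 = n₁) :
    (EtCoh.pull g).map ((SESResLib.derivedLES (EtCoh.push (a ≫ b))).δ E hE n₀ n₁ h) ≫ (outL wab n₁).app E.X₁ =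
      (outL wab n₀).app E.X₃ ≫
        (EtCoh.push b').map ((SESResLib.derivedLES (EtCoh.push a')).δ (E.map (EtCoh.pull gX)) hE' n₀ n₁ h) :=
  chain2 (bcQ_δ (a ≫ b) g (a' ≫ b') gX wab hE hE' n₀ n₁ h) (lerayEdgeOut_δ a' b' hE' n₀ n₁ h)

omit [PreservesFiniteLimits (EtCoh.pull gY)] in
theorem outR_δ {E : ShortComplex (EtCoh.Ab X)} (hE : E.ShortExact) (hE' : (E.map (EtCoh.pull gX)).ShortExact)
    (n₀ n₁ : ℕ) (h : n₀ + 1 = n₁) :
    (EtCoh.pull g).map ((SESResLib.derivedLES (EtCoh.push (a ≫ b))).δ E hE n₀ n₁ h) ≫ (outR wb wa n₁).app E.X₁ =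
      (outR wb wa n₀).app E.X₃ ≫
        (EtCoh.push b').map ((SESResLib.derivedLES (EtCoh.push a')).δ (E.map (EtCoh.pull gX)) hE' n₀ n₁ h) :=
  chain3 (map_sq' (EtCoh.pull g) (lerayEdgeOut_δ a b hE n₀ n₁ h))
    (baseChange0_natural wb ((SESResLib.derivedLES (EtCoh.push a)).δ E hE n₀ n₁ h))
    (map_sq' (EtCoh.push b') (bcQ_δ a gY a' gX wa hE hE' n₀ n₁ h))

end out

theorem deg0_out {C : Type*} [Category* C] {Q0 Q1 P0 P1 T0 U0 U1 V0 W : C} {t : Q0 ⟶ Q1} {l : Q1 ⟶ U1}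
    {e' : U1 ⟶ W} {c : Q0 ⟶ U0} {t' : U0 ⟶ U1} (h1 : t ≫ l = c ≫ t') {j : U0 ⟶ V0} {u : V0 ⟶ W}
    (h2 : t' ≫ e' = j ≫ u) {e : Q1 ⟶ P1} {i : Q0 ⟶ P0} {m : P0 ⟶ P1} (h3 : t ≫ e = i ≫ m)
    {cb₁ : P1 ⟶ T0} {cb : P0 ⟶ V0} {r : T0 ⟶ W} (h4 : m ≫ cb₁ ≫ r = cb ≫ u) (h5 : i ≫ cb = c ≫ j) :
    t ≫ l ≫ e' = t ≫ e ≫ cb₁ ≫ r := by
  rw [reassoc_of% h1, h2, reassoc_of% h3, h4, reassoc_of% h5]

theorem stack_inv {C : Type*} [Category* C] {P0 P0' Q0 U0 V0 : C} {i : P0 ⟶ Q0} {i' : Q0 ⟶ P0}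
    (hi : i' ≫ i = 𝟙 _) {c : Q0 ⟶ U0} {cb : P0 ⟶ P0'} {ca : P0' ⟶ V0} {j : V0 ⟶ U0} {j' : U0 ⟶ V0}
    (hj : j ≫ j' = 𝟙 _) (h : i ≫ c = cb ≫ ca ≫ j) : i' ≫ cb ≫ ca = c ≫ j' := by
  rw [← Category.comp_id ca, ← hj, ← reassoc_of% h, reassoc_of% hi]

theorem cb_nat {C : Type*} [Category* C] {P0 P1 R0 R1 V W : C} {m : P0 ⟶ P1} {cb₁ : P1 ⟶ R1} {cb : P0 ⟶ R0}
    {m' : R0 ⟶ R1} (h : m ≫ cb₁ = cb ≫ m') {r : R1 ⟶ W} {ca : R0 ⟶ V} {u : V ⟶ W} (h' : m' ≫ r = ca ≫ u) :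
    m ≫ cb₁ ≫ r = (cb ≫ ca) ≫ u := by
  rw [reassoc_of% h, h', Category.assoc]

/-- stacking, second edge map -/
theorem bcQ_stack_out [PreservesFiniteLimits (EtCoh.pull gX)] [PreservesFiniteLimits (EtCoh.pull gY)] (q : ℕ)
    (F : EtCoh.Ab X) :
    EtBC.bcQ (a ≫ b) g (a' ≫ b') gX wab q F ≫ EtBC.lerayEdgeOut a' b' q ((EtCoh.pull gX).obj F) =
      (EtCoh.pull g).map (EtBC.lerayEdgeOut a b q F) ≫
        EtCoh.baseChange0 b g b' gY wb ((EtCoh.Rpush a q).obj F) ≫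
          (EtCoh.push b').map (EtBC.bcQ a gY a' gX wa q F) := by
  refine EtFound.eq_of_stalks _ _ fun Ω _ _ ξ => ?_
  haveI : (EtCoh.stalk ξ).Additive := Functor.additive_of_preserves_binary_products _
  haveI : PreservesFiniteLimits (EtCoh.pull g) := pull_preservesFiniteLimits _
  haveI : PreservesFiniteColimits (EtCoh.pull g) :=
    haveI : PreservesColimitsOfSize.{0, 0} (EtCoh.pull g) := (EtCoh.pullPushAdj g).leftAdjoint_preservesColimits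
    PreservesColimitsOfSize.preservesFiniteColimits _
  haveI : PreservesFiniteColimits (EtCoh.pull gX) :=
    haveI : PreservesColimitsOfSize.{0, 0} (EtCoh.pull gX) := (EtCoh.pullPushAdj gX).leftAdjoint_preservesColimits
    PreservesColimitsOfSize.preservesFiniteColimits _
  haveI : (EtCoh.pull g).Additive := Functor.additive_of_preserves_binary_products _
  haveI : (EtCoh.push b').Additive := Functor.additive_of_preserves_binary_products _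
  refine family_unique₂ (EtCoh.push (a ≫ b)) (EtCoh.pull g) (EtCoh.pull gX) (EtCoh.push a') (EtCoh.push b')
    (EtCoh.stalk ξ) (outL wab) (outR wb wa)
    (fun E hE n => outL_δ wab hE (hE.map_of_exact (EtCoh.pull gX)) n (n + 1) rfl)
    (fun E hE n => outR_δ wb wa hE (hE.map_of_exact (EtCoh.pull gX)) n (n + 1) rfl) (fun P => ?_) q F
  refine (cancel_epi ((EtCoh.pull g).map ((EtCoh.push (a ≫ b)).toRightDerivedZero.app P))).1 ?_
  exact deg0_out (EtBC.bcQ_zero_compat (a ≫ b) g (a' ≫ b') gX wab P)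
    (EtBC.toRightDerivedZero_lerayEdgeOut a' b' ((EtCoh.pull gX).obj P))
    (map_sq' (EtCoh.pull g) (EtBC.toRightDerivedZero_lerayEdgeOut a b P))
    (cb_nat (baseChange0_natural wb ((EtCoh.push a).toRightDerivedZero.app P))
      (map_sq' (EtCoh.push b') (EtBC.bcQ_zero_compat a gY a' gX wa P)))
    (stack_inv (((EtCoh.pull g).map_comp _ _).symm.trans
      ((congrArg _ ((EtCoh.pushComp b a).inv_hom_id_app P)).trans ((EtCoh.pull g).map_id _)))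
      ((EtCoh.pushComp b' a').hom_inv_id_app ((EtCoh.pull gX).obj P)) (baseChange0_stack wb wa wab P))

end Groth.Agent.EtBC
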