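import Groth.Agent.EtBC.EtaleBC0
import Groth.Agent.EtBC.Paste

/-! étale base change for higher direct images -/

set_option autoImplicit false
set_option linter.style.haveILetI false
universe w v u₁ u₂ v₂ u

open CategoryTheory CategoryTheory.Limits AlgebraicGeometry Opposite

namespace Groth.Agent.EtBC

open Groth.Agent.EtLimit Groth.Agent.EtFound SiteBase

section gen

variable {A : Type u₁} [Category.{v} A] [Abelian A] [EnoughInjectives A]

/-- a map of effaced connected sequences which is an isomorphism in degree zero is one -/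
theorem connSeq_isIso {H G : ConnSeq.{w} A} (hH : H.Effaced) (hG : G.Effaced) (e : ∀ p, H.F p ⟶ G.F p)
    (he : ∀ (E : ShortComplex A) (hE : E.ShortExact) (p : ℕ),
      H.δ hE p ≫ (e (p + 1)).app E.X₁ = (e p).app E.X₃ ≫ G.δ hE p)
    [IsIso (e 0)] (p : ℕ) : IsIso (e p) := by
  obtain ⟨i, hi0, hi⟩ := connSeq_exists_iso hH hG (asIso (e 0))
  rw [ConnSeq.hom_unique hH e (fun n => (i n).hom) he hi (congrArg Iso.hom hi0).symm p]
  infer_instance

variable {B : Type u₂} [Category.{v₂} B] [Abelian B] [EnoughInjectives B]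

theorem preSeq_effaced {H : ConnSeq.{w} B} (hH : H.Effaced) (P : A ⥤ B) [P.PreservesZeroMorphisms]
    [PreservesFiniteLimits P] [PreservesFiniteColimits P] (hP : ∀ I, Injective I → Injective (P.obj I)) :
    (preSeq H P).Effaced :=
  fun {_} hS hI n => hH (hS.map_of_exact P) (hP _ hI) n

universe u₃ v₃ u₄ v₄

variable {A' : Type u₃} [Category.{v₃} A'] [Abelian A'] [EnoughInjectives A']
  {B₀ : Type u₂} [Category.{v₂} B₀] [Abelian B₀] {B' : Type u₄} [Category.{v₄} B'] [Abelian B']
  (Φ : A ⥤ B₀) [Φ.Additive] (L : B₀ ⥤ B') [L.Additive] [PreservesFiniteLimits L] [PreservesFiniteColimits L]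
  (P : A ⥤ A') [P.PreservesZeroMorphisms] [PreservesFiniteLimits P] [PreservesFiniteColimits P]
  (Φ' : A' ⥤ B') [Φ'.Additive] (R : B' ⥤ AddCommGrpCat.{w}) [R.Additive] [PreservesFiniteLimits R]
  [PreservesFiniteColimits R]

/-- a family commuting with connecting maps is bijective when it is so in degree zero -/
theorem family_isIso (hP : ∀ I, Injective I → Injective (P.obj I))
    (a : ∀ n, Φ.rightDerived n ⋙ L ⟶ P ⋙ Φ'.rightDerived n) (ha : CommutesWithδ Φ L P Φ' a)
    (h0 : ∀ X, IsIso ((a 0).app X)) (q : ℕ) (X : A) : IsIso (R.map ((a q).app X)) := by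
  haveI : (L ⋙ R).Additive := inferInstance
  let e : ∀ n, (derivedSeq Φ (L ⋙ R)).F n ⟶ (preSeq (derivedSeq Φ' R) P).F n :=
    fun n => Functor.whiskerRight (a n) R
  haveI : ∀ Y, IsIso ((e 0).app Y) := fun Y =>
    haveI := h0 Y
    show IsIso (R.map ((a 0).app Y)) from inferInstance
  haveI : IsIso (e 0) := NatIso.isIso_of_isIso_app _
  haveI := connSeq_isIso (derivedSeq_effaced Φ (L ⋙ R))
    (preSeq_effaced (derivedSeq_effaced Φ' R) P hP) e (fun E hE n => map_sq' R (ha E hE n)) q
  exact (inferInstance : IsIso ((e q).app X))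

end gen

set_option backward.isDefEq.respectTransparency.types false
set_option maxHeartbeats 1000000

variable {X S X' S' : Scheme.{u}} {f : X ⟶ S} {g : S' ⟶ S} {f' : X' ⟶ S'} {g' : X' ⟶ X}
  [AlgebraicGeometry.Etale g] (c : IsPullback g' f' f g) [PreservesFiniteLimits (EtCoh.pull g')]

include c in
/-- higher direct images commute with étale base change -/
theorem isIso_bcQ_etale (q : ℕ) (F : EtCoh.Ab X) : IsIso (EtBC.bcQ f g f' g' c.w q F) := by
  haveI : AlgebraicGeometry.Etale g' := MorphismProperty.of_isPullback c.flip inferInstance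
  haveI := jCont g'
  refine (isIso_iff_stalks _).2 fun Ω _ _ ξ => ?_
  haveI : (EtCoh.stalk ξ).Additive := Functor.additive_of_preserves_binary_products _
  haveI : PreservesFiniteLimits (EtCoh.pull g) := pull_preservesFiniteLimits _
  haveI : PreservesFiniteColimits (EtCoh.pull g) :=
    haveI : PreservesColimitsOfSize.{0, 0} (EtCoh.pull g) := (EtCoh.pullPushAdj g).leftAdjoint_preservesColimits
    PreservesColimitsOfSize.preservesFiniteColimits _
  haveI : PreservesFiniteColimits (EtCoh.pull g') :=
    haveI : PreservesColimitsOfSize.{0, 0} (EtCoh.pull g') := (EtCoh.pullPushAdj g').leftAdjoint_preservesColimits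
    PreservesColimitsOfSize.preservesFiniteColimits _
  haveI : (EtCoh.pull g).Additive := Functor.additive_of_preserves_binary_products _
  have h0 : ∀ P, IsIso (EtBC.bcQ f g f' g' c.w 0 P) := fun P => by
    haveI := isIso_baseChange0_etale c P
    haveI : IsIso ((EtCoh.pull g).map ((EtCoh.push f).toRightDerivedZero.app P) ≫ EtBC.bcQ f g f' g' c.w 0 P) := by
      rw [EtBC.bcQ_zero_compat]
      infer_instance
    exact IsIso.of_isIso_comp_left ((EtCoh.pull g).map ((EtCoh.push f).toRightDerivedZero.app P)) _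
  exact family_isIso (EtCoh.push f) (EtCoh.pull g) (EtCoh.pull g') (EtCoh.push f') (EtCoh.stalk ξ)
    (fun I hI => EtLC12.AffineLocalAcyclic.injective_pull g' I) (bcQNat f g f' g' c.w)
    (fun E hE n => bcQ_δ f g f' g' c.w hE (hE.map_of_exact (EtCoh.pull g')) n (n + 1) rfl) h0 q F

end Groth.Agent.EtBC
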