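import Groth.Agent.EtBC.EtaleBC

/-! the base change morphism and étale localization -/

set_option autoImplicit false
set_option linter.style.haveILetI false
universe u

open CategoryTheory CategoryTheory.Limits AlgebraicGeometry Opposite

namespace Groth.Agent.EtBC

open Groth.Agent.EtFound

set_option backward.isDefEq.respectTransparency.types false
set_option maxHeartbeats 1000000

variable {X S X' S' X'' S'' : Scheme.{u}} {f : X ⟶ S} {g : S' ⟶ S} {f' : X' ⟶ S'} {g' : X' ⟶ X}
  (w : g' ≫ f = f' ≫ g) {g₂ : S'' ⟶ S'} {f'' : X'' ⟶ S''} {g₂' : X'' ⟶ X'}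
  {gc : S'' ⟶ S} {gc' : X'' ⟶ X} (hg : g₂ ≫ g = gc) (hg' : g₂' ≫ g' = gc') (wc : gc' ≫ f = f'' ≫ gc)

include w hg hg' in
/-- restriction to an étale scheme over the base does not change isomorphy -/
theorem isIso_pull_bcQ_iff [AlgebraicGeometry.Etale g₂] (c₂ : IsPullback g₂' f'' f' g₂)
    [PreservesFiniteLimits (EtCoh.pull g')] [PreservesFiniteLimits (EtCoh.pull gc')] (q : ℕ) (F : EtCoh.Ab X) :
    IsIso (EtBC.bcQ f gc f'' gc' wc q F) ↔ IsIso ((EtCoh.pull g₂).map (EtBC.bcQ f g f' g' w q F)) := by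
  haveI : PreservesFiniteLimits (EtCoh.pull g₂') := pull_preservesFiniteLimits _
  haveI := isIso_bcQ_etale c₂ q ((EtCoh.pull g').obj F)
  rw [bcQ_paste w c₂.w hg hg' wc q F, pasteNat_app]
  exact (isIso_comp_left_iff _ _).trans (isIso_comp_right_iff _ _)

/-- an isomorphism after restriction to an étale neighbourhood of a geometric point is one on the stalk -/
theorem isIso_stalk_of_pull {U X : Scheme.{u}} (j : U ⟶ X) {G H : EtCoh.Ab X} (a : G ⟶ H)
    (ha : IsIso ((EtCoh.pull j).map a)) {Ω : Type u} [Field Ω] [IsSepClosed Ω] (ξ : Spec (CommRingCat.of Ω) ⟶ X)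
    (η : Spec (CommRingCat.of Ω) ⟶ U) (hη : η ≫ j = ξ) : IsIso ((EtCoh.stalk ξ).map a) := by
  subst hη
  haveI := ha
  exact (NatIso.isIso_map_iff (stalkPullIso j η) a).1
    (inferInstanceAs (IsIso ((EtCoh.stalk η).map ((EtCoh.pull j).map a))))

end Groth.Agent.EtBC
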