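import Groth.Agent.EtBC.Square
import Groth.Agent.EtLimit.Mates

/-! pasting of base change morphisms in degree zero -/

set_option autoImplicit false
set_option linter.style.haveILetI false
universe u

open CategoryTheory CategoryTheory.Limits AlgebraicGeometry Opposite

namespace Groth.Agent.EtBC

open Groth.Agent.EtLimit Groth.Agent.EtFound

set_option backward.isDefEq.respectTransparency.types false
set_option maxHeartbeats 1000000

section hom

variable {X S Y : Scheme.{u}}

/-- morphisms into an iterated base change are determined by their component in the bottom object -/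
theorem bc_bc_hom_ext (k : Y ⟶ X) (f : X ⟶ S) {V : S.Etale} {U : Y.Etale}
    (a b : U ⟶ (EtCoh.bc k).obj ((EtCoh.bc f).obj V))
    (h : a.left ≫ pullback.fst (pullback.snd V.hom f) k ≫ pullback.fst V.hom f =
      b.left ≫ pullback.fst (pullback.snd V.hom f) k ≫ pullback.fst V.hom f) : a = b := by
  apply MorphismProperty.Over.Hom.ext
  have hs : a.left ≫ pullback.snd (pullback.snd V.hom f) k = b.left ≫ pullback.snd (pullback.snd V.hom f) k :=
    (MorphismProperty.Over.w a).trans (MorphismProperty.Over.w b).symm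
  refine pullback.hom_ext (pullback.hom_ext ?_ ?_) hs
  · exact (Category.assoc _ _ _).trans (h.trans (Category.assoc _ _ _).symm)
  · refine (Category.assoc _ _ _).trans (Eq.trans ?_ (Category.assoc _ _ _).symm)
    refine (congrArg (a.left ≫ ·) (pullback.condition (f := pullback.snd V.hom f) (g := k))).trans ?_
    refine Eq.trans ?_ (congrArg (b.left ≫ ·) (pullback.condition (f := pullback.snd V.hom f) (g := k))).symm
    exact (Category.assoc _ _ _).symm.trans ((congrArg (· ≫ k) hs).trans (Category.assoc _ _ _))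

/-- the unit through a composition, on sections -/
theorem θPull_unit_apply (p : Y ⟶ X) (v : X ⟶ S) (q : Y ⟶ S) (h : p ≫ v = q) (G : EtCoh.Ab S) (V : S.Etale)
    (s : G.obj.obj (op V)) :
    ((θPull p v q h).hom.app G).hom.app (op ((EtCoh.bc p).obj ((EtCoh.bc v).obj V)))
        (((EtCoh.pullPushAdj p).unit.app ((EtCoh.pull v).obj G)).hom.app (op ((EtCoh.bc v).obj V))
          (((EtCoh.pullPushAdj v).unit.app G).hom.app (op V) s)) =
      ((EtCoh.pull q).obj G).obj.map (tauMap p v q h V).op (((EtCoh.pullPushAdj q).unit.app G).hom.app (op V) s) := by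
  have h' := congrArg (fun a : G ⟶ _ => a.hom.app (op V)) (unit_θPull p v q h G)
  rw [Adjunction.homEquiv_unit, Adjunction.homEquiv_unit] at h'
  rw [← tauPush_app]
  exact ConcreteCategory.congr_hom h' s

end hom

variable {X S X' S' X'' S'' : Scheme.{u}} {f : X ⟶ S} {g : S' ⟶ S} {f' : X' ⟶ S'} {g' : X' ⟶ X}
  (w : g' ≫ f = f' ≫ g) {g₂ : S'' ⟶ S'} {f'' : X'' ⟶ S''} {g₂' : X'' ⟶ X'} (w₂ : g₂' ≫ f' = f'' ≫ g₂)
  {gc : S'' ⟶ S} {gc' : X'' ⟶ X} (hg : g₂ ≫ g = gc) (hg' : g₂' ≫ g' = gc') (wc : gc' ≫ f = f'' ≫ gc)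

theorem bcSq_paste (V : S.Etale) :
    (EtCoh.bc f'').map (tauMap g₂ g gc hg V) ≫ bcSq wc V =
      bcSq w₂ ((EtCoh.bc g).obj V) ≫ (EtCoh.bc g₂').map (bcSq w V) ≫ tauMap g₂' g' gc' hg' ((EtCoh.bc f).obj V) := by
  refine bc_bc_hom_ext gc' f _ _ ?_
  refine (Category.assoc _ _ _).trans ?_
  refine (congrArg (((EtCoh.bc f'').map (tauMap g₂ g gc hg V)).left ≫ ·) (bcSq_fst wc V)).trans ?_
  refine (Category.assoc _ _ _).symm.trans ?_
  refine (congrArg (· ≫ pullback.fst V.hom gc) (EtCoh.isPullback_bc_map f'' (tauMap g₂ g gc hg V)).w).trans ?_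
  refine (Category.assoc _ _ _).trans ?_
  refine (congrArg (pullback.fst _ f'' ≫ ·) (tauMap_fst g₂ g gc hg V)).trans ?_
  symm
  refine (Category.assoc _ _ _).trans ((congrArg (_ ≫ ·) (Category.assoc _ _ _)).trans ?_)
  refine (congrArg (fun t => _ ≫ _ ≫ t) (((Category.assoc _ _ _).symm).trans
    ((congrArg (· ≫ pullback.fst V.hom f) (tauMap_fst g₂' g' gc' hg' ((EtCoh.bc f).obj V))).trans
      (Category.assoc _ _ _)))).trans ?_
  refine (congrArg ((bcSq w₂ ((EtCoh.bc g).obj V)).left ≫ ·) ((Category.assoc _ _ _).symm.trans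
    ((congrArg (· ≫ _) (EtCoh.isPullback_bc_map g₂' (bcSq w V)).w).trans
      ((Category.assoc _ _ _).trans (congrArg (_ ≫ ·) (bcSq_fst w V)))))).trans ?_
  refine (congrArg ((bcSq w₂ ((EtCoh.bc g).obj V)).left ≫ ·) (Category.assoc _ _ _).symm).trans ?_
  refine (Category.assoc _ _ _).symm.trans ?_
  refine (congrArg (· ≫ pullback.fst V.hom g) (bcSq_fst w₂ ((EtCoh.bc g).obj V))).trans ?_
  exact Category.assoc _ _ _

/-- the base change morphisms in degree zero compose -/
theorem baseChange0_paste (F : EtCoh.Ab X) :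
    (θPull g₂ g gc hg).hom.app ((EtCoh.push f).obj F) ≫ EtCoh.baseChange0 f gc f'' gc' wc F =
      (EtCoh.pull g₂).map (EtCoh.baseChange0 f g f' g' w F) ≫
        EtCoh.baseChange0 f' g₂ f'' g₂' w₂ ((EtCoh.pull g').obj F) ≫
          (EtCoh.push f'').map ((θPull g₂' g' gc' hg').hom.app F) := by
  apply ((EtCoh.pullPushAdj g₂).homEquiv _ _).injective
  apply ((EtCoh.pullPushAdj g).homEquiv _ _).injective
  simp only [Adjunction.homEquiv_unit]
  ext ⟨V⟩ : 3
  refine ConcreteCategory.hom_ext _ _ fun s => ?_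
  let c0 := EtCoh.baseChange0 f gc f'' gc' wc F
  let cA := EtCoh.baseChange0 f g f' g' w F
  let cB := EtCoh.baseChange0 f' g₂ f'' g₂' w₂ ((EtCoh.pull g').obj F)
  let P := op ((EtCoh.bc g₂).obj ((EtCoh.bc g).obj V))
  let t := ((EtCoh.pullPushAdj g).unit.app ((EtCoh.push f).obj F)).hom.app (op V) s
  change c0.hom.app P (((θPull g₂ g gc hg).hom.app ((EtCoh.push f).obj F)).hom.app P
      (((EtCoh.pullPushAdj g₂).unit.app _).hom.app (op ((EtCoh.bc g).obj V)) t)) =
    ((θPull g₂' g' gc' hg').hom.app F).hom.app (op ((EtCoh.bc f'').obj P.unop))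
      (cB.hom.app P (((EtCoh.pull g₂).map cA).hom.app P
        (((EtCoh.pullPushAdj g₂).unit.app _).hom.app (op ((EtCoh.bc g).obj V)) t)))
  refine (congrArg (c0.hom.app P) (θPull_unit_apply g₂ g gc hg ((EtCoh.push f).obj F) V s)).trans ?_
  refine (ConcreteCategory.congr_hom (c0.hom.naturality (tauMap g₂ g gc hg V).op) _).trans ?_
  refine (congrArg (((EtCoh.push f'').obj ((EtCoh.pull gc').obj F)).obj.map (tauMap g₂ g gc hg V).op)
    (ConcreteCategory.congr_hom (baseChange0_unit wc F V) s)).trans ?_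
  have eA : cA.hom.app (op ((EtCoh.bc g).obj V)) t = ((EtCoh.pull g').obj F).obj.map (bcSq w V).op
      (((EtCoh.pullPushAdj g').unit.app F).hom.app (op ((EtCoh.bc f).obj V)) s) :=
    ConcreteCategory.congr_hom (baseChange0_unit w F V) s
  symm
  have eU : ((EtCoh.pullPushAdj g₂).unit.app _).hom.app (op ((EtCoh.bc g).obj V))
      (cA.hom.app (op ((EtCoh.bc g).obj V)) t) =
      ((EtCoh.pull g₂).map cA).hom.app P
        (((EtCoh.pullPushAdj g₂).unit.app _).hom.app (op ((EtCoh.bc g).obj V)) t) :=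
    ConcreteCategory.congr_hom
      (congrArg (fun a => a.hom.app (op ((EtCoh.bc g).obj V))) ((EtCoh.pullPushAdj g₂).unit.naturality cA)) t
  refine (congrArg (fun y => ((θPull g₂' g' gc' hg').hom.app F).hom.app _ (cB.hom.app P y))
    (eU.symm.trans (congrArg _ eA))).trans ?_
  refine (congrArg (((θPull g₂' g' gc' hg').hom.app F).hom.app _)
    (ConcreteCategory.congr_hom (baseChange0_unit w₂ ((EtCoh.pull g').obj F) ((EtCoh.bc g).obj V)) _)).trans ?_
  refine (ConcreteCategory.congr_hom (((θPull g₂' g' gc' hg').hom.app F).hom.naturality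
    (bcSq w₂ ((EtCoh.bc g).obj V)).op) _).trans ?_
  let s' := ((EtCoh.pullPushAdj g').unit.app F).hom.app (op ((EtCoh.bc f).obj V)) s
  have eN := ConcreteCategory.congr_hom
    (((EtCoh.pullPushAdj g₂').unit.app ((EtCoh.pull g').obj F)).hom.naturality (bcSq w V).op) s'
  refine (congrArg (fun y => ((EtCoh.pull gc').obj F).obj.map (bcSq w₂ ((EtCoh.bc g).obj V)).op
    (((θPull g₂' g' gc' hg').hom.app F).hom.app _ y)) eN).trans ?_
  let θ' := ((θPull g₂' g' gc' hg').hom.app F).hom
  let x₂ := ((EtCoh.pullPushAdj g₂').unit.app ((EtCoh.pull g').obj F)).hom.app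
    (op ((EtCoh.bc g').obj ((EtCoh.bc f).obj V))) s'
  have eθ : θ'.app (op ((EtCoh.bc g₂').obj ((EtCoh.bc f').obj ((EtCoh.bc g).obj V))))
      (((EtCoh.pull g₂').obj ((EtCoh.pull g').obj F)).obj.map ((EtCoh.bc g₂').map (bcSq w V)).op x₂) =
      ((EtCoh.pull gc').obj F).obj.map ((EtCoh.bc g₂').map (bcSq w V)).op
        (((EtCoh.pull gc').obj F).obj.map (tauMap g₂' g' gc' hg' ((EtCoh.bc f).obj V)).op
          (((EtCoh.pullPushAdj gc').unit.app F).hom.app (op ((EtCoh.bc f).obj V)) s)) :=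
    (NatTrans.naturality_apply θ' ((EtCoh.bc g₂').map (bcSq w V)).op x₂).trans
      (congrArg _ (θPull_unit_apply g₂' g' gc' hg' F ((EtCoh.bc f).obj V) s))
  refine (congrArg (((EtCoh.pull gc').obj F).obj.map (bcSq w₂ ((EtCoh.bc g).obj V)).op) eθ).trans ?_
  let M := ((EtCoh.pull gc').obj F).obj
  have key : M.map (tauMap g₂' g' gc' hg' ((EtCoh.bc f).obj V)).op ≫ M.map ((EtCoh.bc g₂').map (bcSq w V)).op ≫
      M.map (bcSq w₂ ((EtCoh.bc g).obj V)).op =
      M.map (bcSq wc V).op ≫ M.map ((EtCoh.bc f'').map (tauMap g₂ g gc hg V)).op := by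
    simp only [← Functor.map_comp, ← op_comp]
    exact congrArg (fun a => M.map (Quiver.Hom.op a))
      ((Category.assoc _ _ _).trans (bcSq_paste w w₂ hg hg' wc V).symm)
  exact ConcreteCategory.congr_hom key _

end Groth.Agent.EtBC
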