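import Groth.Agent.EtBC.Square
import Groth.Agent.EtBC.BcQ

/-!
# The base change morphism on stalks is the pullback of cohomology over strict localizations
-/

set_option autoImplicit false
set_option linter.style.haveILetI false
universe u

open CategoryTheory CategoryTheory.Limits AlgebraicGeometry Opposite

namespace Groth.Agent.EtBC

open Groth.Agent.EtLimit Groth.Agent.EtFound SiteBase

set_option backward.isDefEq.respectTransparency.types false
set_option maxHeartbeats 1000000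

variable {X S X' S' : Scheme.{u}}

/-- cohomology of an iterated inverse image, as a connected sequence -/
noncomputable def pullPullSeq {W : Scheme.{u}} (g' : X' ⟶ X) (p' : W ⟶ X')
    [PreservesFiniteLimits (EtCoh.pull g')] [PreservesFiniteLimits (EtCoh.pull p')] :
    ConnSeq.{u + 1} (EtCoh.Ab X) where
  F n := EtCoh.pull g' ⋙ EtCoh.pull p' ⋙ EtCoh.HF W n
  δ hS n := (pullHSeq p').δ (hS.map_of_exact (EtCoh.pull g')) n
  δ_natural hS hS' φ n := (pullHSeq p').δ_natural (hS.map_of_exact (EtCoh.pull g'))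
    (hS'.map_of_exact (EtCoh.pull g')) ((EtCoh.pull g').mapShortComplex.map φ) n
  map_comp_δ hS n := (pullHSeq p').map_comp_δ (hS.map_of_exact (EtCoh.pull g')) n

theorem hThen_comp_right {W W' : Scheme.{u}} (m : W' ⟶ W) [PreservesFiniteLimits (EtCoh.pull m)] (F : EtCoh.Ab W)
    {M N : EtCoh.Ab W'} (α : (EtCoh.pull m).obj F ⟶ M) (b : M ⟶ N) (n : ℕ) (ξ : EtCoh.H W F n) :
    hThen m F (α ≫ b) n ξ = hmap b n (hThen m F α n ξ) :=
  (hmap_comp α b n (EtCore.Hpull m F n ξ)).symm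

theorem hmap_bijective {W : Scheme.{u}} {M N : EtCoh.Ab W} (b : M ⟶ N) [IsIso b] (n : ℕ) :
    Function.Bijective (hmap b n) :=
  (ConcreteCategory.isIso_iff_bijective ((EtCoh.HF W n).map b)).1 inferInstance

theorem map_iso_inv_apply {C : Type*} [Category* C] (G : C ⥤ AddCommGrpCat.{u + 1}) {a b : C} (i : a ≅ b)
    (y : G.obj a) : G.map i.inv (G.map i.hom y) = y :=
  (G.mapIso i).addCommGroupIsoToAddEquiv.symm_apply_apply y

section fibre

variable {f : X ⟶ S} {g : S' ⟶ S} {f' : X' ⟶ S'} {g' : X' ⟶ X} (w : g' ≫ f = f' ≫ g)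
  {T T' : Scheme.{u}} {π : T ⟶ S} {π' : T' ⟶ S'} {Ω : Type u} [Field Ω] [IsSepClosed Ω]
  {z : Spec (CommRingCat.of Ω) ⟶ T} {z' : Spec (CommRingCat.of Ω) ⟶ T'}
  {m : pullback f' π' ⟶ pullback f π} {u : pullback f' π' ⟶ X}
  (hu : pullback.fst f' π' ≫ g' = u) (hmu : m ≫ pullback.fst f π = u)

/-- the comparison of the inverse images -/
noncomputable def fibβ :
    EtCoh.pull (pullback.fst f π) ⋙ EtCoh.pull m ⟶ EtCoh.pull g' ⋙ EtCoh.pull (pullback.fst f' π') :=
  (θPull m (pullback.fst f π) u hmu).hom ≫ (θPull (pullback.fst f' π') g' u hu).inv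

theorem fibβ_app (F : EtCoh.Ab X) : (fibβ hu hmu).app F =
    (θPull m (pullback.fst f π) u hmu).hom.app F ≫ (θPull (pullback.fst f' π') g' u hu).inv.app F := rfl

/-- pullback between the fibres -/
noncomputable def fibPull [PreservesFiniteLimits (EtCoh.pull m)] (n : ℕ) :
    EtCoh.pull (pullback.fst f π) ⋙ EtCoh.HF (pullback f π) n ⟶
      EtCoh.pull g' ⋙ EtCoh.pull (pullback.fst f' π') ⋙ EtCoh.HF (pullback f' π') n where
  app F := AddCommGrpCat.ofHom (hThen m ((EtCoh.pull (pullback.fst f π)).obj F) ((fibβ hu hmu).app F) n)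
  naturality _ _ a := AddCommGrpCat.hom_ext (AddMonoidHom.ext fun ξ =>
    HpullThen_hmap m _ _ _ _ ((fibβ hu hmu).naturality a) n ξ)

theorem fibPull_δ [PreservesFiniteLimits (EtCoh.pull m)] [PreservesFiniteLimits (EtCoh.pull g')]
    [PreservesFiniteLimits (EtCoh.pull (pullback.fst f π))] [PreservesFiniteLimits (EtCoh.pull (pullback.fst f' π'))]
    {E : ShortComplex (EtCoh.Ab X)} (hE : E.ShortExact) (n : ℕ) :
    (pullHSeq (pullback.fst f π)).δ hE n ≫ (fibPull hu hmu (n + 1)).app E.X₁ =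
      (fibPull hu hmu n).app E.X₃ ≫ (pullPullSeq g' (pullback.fst f' π')).δ hE n :=
  AddCommGrpCat.hom_ext (AddMonoidHom.ext fun ξ =>
    HpullThen_hδ m (hE.map_of_exact (EtCoh.pull (pullback.fst f π)))
      ((hE.map_of_exact (EtCoh.pull g')).map_of_exact (EtCoh.pull (pullback.fst f' π')))
      ((fibβ hu hmu).app E.X₁) ((fibβ hu hmu).app E.X₂) ((fibβ hu hmu).app E.X₃)
      ((fibβ hu hmu).naturality E.f).symm ((fibβ hu hmu).naturality E.g).symm rfl ξ)

theorem fibPull_bijective_iff [PreservesFiniteLimits (EtCoh.pull m)] (F : EtCoh.Ab X) (n : ℕ) :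
    Function.Bijective (hThen m ((EtCoh.pull (pullback.fst f π)).obj F) ((fibβ hu hmu).app F) n) ↔
      Function.Bijective (hVia m (pullback.fst f π) u hmu F n) := by
  have e : ∀ ξ, hThen m ((EtCoh.pull (pullback.fst f π)).obj F) ((fibβ hu hmu).app F) n ξ =
      hmap ((θPull (pullback.fst f' π') g' u hu).inv.app F) n (hVia m (pullback.fst f π) u hmu F n ξ) :=
    fun ξ => hThen_comp_right m _ _ _ n ξ
  exact (iff_of_eq (congrArg Function.Bijective (funext e))).trans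
    (Function.Bijective.of_comp_iff' (hmap_bijective ((θPull (pullback.fst f' π') g' u hu).inv.app F) n) _)

variable (f f' g' π π')

/-- the stalk of the base change map followed by the comparison at `T'` -/
noncomputable def bcFibNat [PreservesFiniteLimits (EtCoh.pull g')]
    (hξ : (z' ≫ π') ≫ g = z ≫ π) (n : ℕ)
    (e' : EtCoh.Rpush f' n ⋙ EtCoh.stalk (z' ≫ π') ⟶ EtCoh.pull (pullback.fst f' π') ⋙ EtCoh.HF (pullback f' π') n) :
    EtCoh.Rpush f n ⋙ EtCoh.stalk (z ≫ π) ⟶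
      EtCoh.pull g' ⋙ EtCoh.pull (pullback.fst f' π') ⋙ EtCoh.HF (pullback f' π') n :=
  Functor.whiskerLeft (EtCoh.Rpush f n) (stalkToPull hξ).hom ≫ (Functor.associator _ _ _).inv ≫
    Functor.whiskerRight (bcQNat f g f' g' w n) (EtCoh.stalk (z' ≫ π')) ≫ (Functor.associator _ _ _).hom ≫
      Functor.whiskerLeft (EtCoh.pull g') e'

variable {f f' g' π π'}

theorem bcFibNat_app [PreservesFiniteLimits (EtCoh.pull g')] (hξ : (z' ≫ π') ≫ g = z ≫ π) (n : ℕ)
    (e' : EtCoh.Rpush f' n ⋙ EtCoh.stalk (z' ≫ π') ⟶ EtCoh.pull (pullback.fst f' π') ⋙ EtCoh.HF (pullback f' π') n)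
    (F : EtCoh.Ab X) : (bcFibNat f f' g' w π π' hξ n e').app F =
      (stalkToPull hξ).hom.app ((EtCoh.Rpush f n).obj F) ≫
        (EtCoh.stalk (z' ≫ π')).map (EtBC.bcQ f g f' g' w n F) ≫ e'.app ((EtCoh.pull g').obj F) := by
  simp [bcFibNat, bcQNat]

variable (hz : LiftsUniquely π z) (hz' : LiftsUniquely π' z') {m₀ : T' ⟶ T} (hm : m₀ ≫ π = π' ≫ g)
  (hmz : z' ≫ m₀ = z) (hm₀ : m ≫ pullback.snd f π = pullback.snd f' π' ≫ m₀)

omit [IsSepClosed Ω] in
include hm hmz in
theorem point_comp : (z' ≫ π') ≫ g = z ≫ π := by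
  rw [Category.assoc, ← hm, ← Category.assoc, hmz]

include hm hmz in
/-- the point of a neighbourhood pulled back -/
theorem nbMap_compat (V : S.Etale) (v : (Scheme.pointSmallEtale (z ≫ π)).fiber.obj V) :
    (nbMap hz' ((EtCoh.bc g).obj V) ((bcFiberEquiv g (z' ≫ π') V).symm
      (ptCongr (point_comp hm hmz).symm v)) : T' ⟶ pullback V.hom g) ≫ pullback.fst V.hom g =
        m₀ ≫ nbMap hz V v := by
  let v' := (bcFiberEquiv g (z' ≫ π') V).symm (ptCongr (point_comp (z := z) hm hmz).symm v)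
  let ρ := nbMap hz V v
  have hl : (m₀ ≫ ρ) ≫ V.hom = π' ≫ g := by rw [Category.assoc, nbMap_hom hz V v, hm]
  have h := nbMap_unique hz' ((EtCoh.bc g).obj V) v' (pullback.lift (m₀ ≫ ρ) π' hl) (pullback.lift_snd _ _ _) ?_
  · exact (congrArg (· ≫ pullback.fst V.hom g) h).symm.trans (pullback.lift_fst _ _ _)
  · apply pullback.hom_ext
    · refine (Category.assoc _ _ _).trans ((congrArg (z' ≫ ·) (pullback.lift_fst _ _ _)).trans ?_)
      refine (Category.assoc _ _ _).symm.trans ((congrArg (· ≫ ρ) hmz).trans ((nbMap_point hz V v).trans ?_))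
      have h' := congrArg (fun y => (CategoryTheory.CommaMorphism.left y))
        ((bcFiberEquiv g (z' ≫ π') V).apply_symm_apply (ptCongr (point_comp (z := z) hm hmz).symm v))
      exact h'.symm
    · refine (Category.assoc _ _ _).trans ((congrArg (z' ≫ ·) (pullback.lift_snd _ _ _)).trans ?_)
      exact (CategoryTheory.Over.w v').symm

/-- the section of the base changed neighbourhood -/
noncomputable def fibσ (V : S.Etale) (ρ' : T' ⟶ ((EtCoh.bc g).obj V).left)
    (h' : ρ' ≫ ((EtCoh.bc g).obj V).hom = π') :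
    pullback f' π' ⟶ ((EtCoh.bc g').obj ((EtCoh.bc f).obj V)).left :=
  nbLift f' ((EtCoh.bc g).obj V) ρ' h' ≫ (bcSq w V).left

theorem fibσ_hom (V : S.Etale) (ρ' : T' ⟶ ((EtCoh.bc g).obj V).left)
    (h' : ρ' ≫ ((EtCoh.bc g).obj V).hom = π') :
    fibσ w V ρ' h' ≫ ((EtCoh.bc g').obj ((EtCoh.bc f).obj V)).hom = pullback.fst f' π' :=
  (Category.assoc _ _ _).trans ((congrArg (_ ≫ ·) (MorphismProperty.Over.w (bcSq w V))).trans
    (nbLift_hom f' ((EtCoh.bc g).obj V) ρ' h'))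

include hu hmu hm₀ in
theorem fib_point (V : S.Etale) (ρ : T ⟶ V.left) (h : ρ ≫ V.hom = π) (ρ' : T' ⟶ ((EtCoh.bc g).obj V).left)
    (h' : ρ' ≫ ((EtCoh.bc g).obj V).hom = π')
    (hρ' : (ρ' : T' ⟶ pullback V.hom g) ≫ pullback.fst V.hom g = m₀ ≫ ρ) :
    m ≫ nbLift f V ρ h = fibσ w V ρ' h' ≫ pullback.fst ((EtCoh.bc f).obj V).hom g' := by
  apply pullback.hom_ext
  · refine (Category.assoc _ _ _).trans ((congrArg (m ≫ ·) (pullback.lift_fst _ _ _)).trans ?_)
    refine (Category.assoc _ _ _).symm.trans ((congrArg (· ≫ ρ) hm₀).trans ?_)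
    refine (Category.assoc _ _ _).trans ?_
    refine Eq.trans ?_ ((Category.assoc _ _ _).trans (Category.assoc _ _ _)).symm
    refine Eq.trans ?_ (congrArg (nbLift f' ((EtCoh.bc g).obj V) ρ' h' ≫ ·) (bcSq_fst w V)).symm
    refine Eq.trans ?_ (Category.assoc _ _ _)
    refine Eq.trans ?_ (congrArg (· ≫ pullback.fst V.hom g) (pullback.lift_fst _ _ _)).symm
    exact ((Category.assoc _ _ _).trans (congrArg _ hρ')).symm
  · refine ((Category.assoc _ _ _).trans ((congrArg (m ≫ ·) (nbLift_hom f V ρ _)).trans hmu)).trans ?_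
    refine Eq.trans ?_ (Category.assoc _ _ _).symm
    refine Eq.trans ?_ (congrArg (fibσ w V ρ' h' ≫ ·)
      (pullback.condition (f := ((EtCoh.bc f).obj V).hom) (g := g'))).symm
    refine Eq.trans ?_ (Category.assoc _ _ _)
    exact hu.symm.trans (congrArg (· ≫ g') (fibσ_hom w V ρ' h').symm)

include hu in
/-- evaluation of a pulled back section -/
theorem secAt_θ_inv {W : X.Etale} (σ : pullback f' π' ⟶ ((EtCoh.bc g').obj W).left)
    (hσ : σ ≫ ((EtCoh.bc g').obj W).hom = pullback.fst f' π') (ρ₁ : pullback f' π' ⟶ W.left)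
    (hρ : ρ₁ = σ ≫ pullback.fst W.hom g') (e₁ : ρ₁ ≫ W.hom = u) (F : EtCoh.Ab X) (s : F.obj.obj (op W)) :
    secAt (pullback.fst f' π') ((EtCoh.bc g').obj W) σ hσ ((EtCoh.pull g').obj F)
        (((EtCoh.pullPushAdj g').unit.app F).hom.app (op W) s) =
      (EtCore.gsec (pullback f' π')).map ((θPull (pullback.fst f' π') g' u hu).inv.app F) (secAt u W ρ₁ e₁ F s) := by
  have h2 : (EtCore.gsec (pullback f' π')).map ((θPull (pullback.fst f' π') g' u hu).hom.app F)
      (secAt (pullback.fst f' π') ((EtCoh.bc g').obj W) σ hσ ((EtCoh.pull g').obj F)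
        (((EtCoh.pullPushAdj g').unit.app F).hom.app (op W) s)) = secAt u W ρ₁ e₁ F s :=
    ConcreteCategory.congr_hom (atPt_comp (pullback.fst f' π') g' u hu W σ hσ ρ₁ hρ e₁ F) s
  exact ((congrArg _ h2.symm).trans (map_iso_inv_apply (EtCore.gsec (pullback f' π'))
    ((θPull (pullback.fst f' π') g' u hu).app F) _)).symm

/-- the pullback between the fibres, evaluated -/
theorem fibPull_sec [PreservesFiniteLimits (EtCoh.pull m)] {W : X.Etale} (F : EtCoh.Ab X)
    (ρ₀ : pullback f π ⟶ W.left) (e₀ : ρ₀ ≫ W.hom = pullback.fst f π) (s : F.obj.obj (op W))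
    (ξ : EtCoh.H (pullback f π) (pullObj (pullback.fst f π) F) 0)
    (hξ : hSec (pullObj (pullback.fst f π) F) ξ = secAt (pullback.fst f π) W ρ₀ e₀ F s)
    (ρ₁ : pullback f' π' ⟶ W.left) (hρ : ρ₁ = m ≫ ρ₀) (e₁ : ρ₁ ≫ W.hom = u) :
    hSec ((EtCoh.pull (pullback.fst f' π')).obj ((EtCoh.pull g').obj F))
        (hThen m ((EtCoh.pull (pullback.fst f π)).obj F) ((fibβ hu hmu).app F) 0 ξ) =
      (EtCore.gsec (pullback f' π')).map ((θPull (pullback.fst f' π') g' u hu).inv.app F) (secAt u W ρ₁ e₁ F s) :=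
  (congrArg (hSec _) (hThen_comp_right m _ _ _ 0 ξ)).trans
    ((hSec_hmap _ _).trans (congrArg _ (hSec_hVia m (pullback.fst f π) u hmu F W ρ₀ e₀ s ξ hξ ρ₁ hρ e₁)))

/-- the base change map on a germ in degree zero -/
theorem bcQ_germ [PreservesFiniteLimits (EtCoh.pull g')] (hξ : (z' ≫ π') ≫ g = z ≫ π) (F : EtCoh.Ab X) (V : S.Etale)
    (v : (Scheme.pointSmallEtale (z ≫ π)).fiber.obj V) (s : F.obj.obj (op ((EtCoh.bc f).obj V))) :
    (EtCoh.stalk (z' ≫ π')).map (EtBC.bcQ f g f' g' w 0 F) ((stalkToPull hξ).hom.app _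
        ((EtCoh.stalk (z ≫ π)).map ((EtCoh.push f).toRightDerivedZero.app F)
          ((Scheme.pointSmallEtale (z ≫ π)).toPresheafFiber V v ((EtCoh.push f).obj F).obj s))) =
      (EtCoh.stalk (z' ≫ π')).map ((EtCoh.push f').toRightDerivedZero.app ((EtCoh.pull g').obj F))
        ((Scheme.pointSmallEtale (z' ≫ π')).toPresheafFiber ((EtCoh.bc g).obj V)
          ((bcFiberEquiv g (z' ≫ π') V).symm (ptCongr hξ.symm v))
          ((EtCoh.push f').obj ((EtCoh.pull g').obj F)).obj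
          (((EtCoh.pull g').obj F).obj.map (bcSq w V).op
            (((EtCoh.pullPushAdj g').unit.app F).hom.app (op ((EtCoh.bc f).obj V)) s))) := by
  let r₀ := (EtCoh.push f).toRightDerivedZero.app F
  let c0 := EtCoh.baseChange0 f g f' g' w F
  let x := (Scheme.pointSmallEtale (z ≫ π)).toPresheafFiber V v ((EtCoh.push f).obj F).obj s
  have a1 : (stalkToPull hξ).hom.app _ ((EtCoh.stalk (z ≫ π)).map r₀ x) =
      (EtCoh.stalk (z' ≫ π')).map ((EtCoh.pull g).map r₀) ((stalkToPull hξ).hom.app ((EtCoh.push f).obj F) x) :=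
    ConcreteCategory.congr_hom ((stalkToPull hξ).hom.naturality r₀) x
  refine (congrArg _ (a1.trans (congrArg _ (stalkToPull_germ hξ ((EtCoh.push f).obj F) V v s)))).trans ?_
  refine (ConcreteCategory.comp_apply _ _ _).symm.trans ?_
  rw [← Functor.map_comp, EtBC.bcQ_zero_compat, Functor.map_comp]
  refine (ConcreteCategory.comp_apply _ _ _).trans ?_
  refine congrArg _ ((ConcreteCategory.congr_hom
    ((Scheme.pointSmallEtale (z' ≫ π')).toPresheafFiber_naturality c0.hom ((EtCoh.bc g).obj V) _) _).trans ?_)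
  exact congrArg _ (ConcreteCategory.congr_hom (baseChange0_unit w F V) s)

include hu hmu hm hmz hm₀ hz hz' in
/-- the two comparisons agree in degree zero on germs -/
theorem bcFib_germ [QuasiCompact f] [QuasiSeparated f] [QuasiCompact f'] [QuasiSeparated f']
    [PreservesFiniteLimits (EtCoh.pull g')] [PreservesFiniteLimits (EtCoh.pull m)]
    (e : EtCoh.Rpush f 0 ⋙ EtCoh.stalk (z ≫ π) ⟶ EtCoh.pull (pullback.fst f π) ⋙ EtCoh.HF (pullback f π) 0)
    (he : GermFormula f hz e)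
    (e' : EtCoh.Rpush f' 0 ⋙ EtCoh.stalk (z' ≫ π') ⟶ EtCoh.pull (pullback.fst f' π') ⋙ EtCoh.HF (pullback f' π') 0)
    (he' : GermFormula f' hz' e') (F : EtCoh.Ab X) (V : S.Etale)
    (v : (Scheme.pointSmallEtale (z ≫ π)).fiber.obj V) (s : F.obj.obj (op ((EtCoh.bc f).obj V))) :
    (bcFibNat f f' g' w π π' (point_comp hm hmz) 0 e').app F
        ((EtCoh.stalk (z ≫ π)).map ((EtCoh.push f).toRightDerivedZero.app F)
          ((Scheme.pointSmallEtale (z ≫ π)).toPresheafFiber V v ((EtCoh.push f).obj F).obj s)) =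
      hThen m ((EtCoh.pull (pullback.fst f π)).obj F) ((fibβ hu hmu).app F) 0 (e.app F
        ((EtCoh.stalk (z ≫ π)).map ((EtCoh.push f).toRightDerivedZero.app F)
          ((Scheme.pointSmallEtale (z ≫ π)).toPresheafFiber V v ((EtCoh.push f).obj F).obj s))) := by
  apply (hSec_bijective ((EtCoh.pull (pullback.fst f' π')).obj ((EtCoh.pull g').obj F))).1
  let ρ := nbMap hz V v
  let ρ' := nbMap hz' ((EtCoh.bc g).obj V) ((bcFiberEquiv g (z' ≫ π') V).symm
      (ptCongr (point_comp (z := z) hm hmz).symm v))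
  have h' := nbMap_hom hz' ((EtCoh.bc g).obj V) ((bcFiberEquiv g (z' ≫ π') V).symm
      (ptCongr (point_comp (z := z) hm hmz).symm v))
  have hρ₁ := fib_point w hu hmu hm₀ V ρ (nbMap_hom hz V v) ρ' h' (nbMap_compat hz hz' hm hmz V v)
  have hρ₁e : (m ≫ nbLift f V ρ (nbMap_hom hz V v)) ≫ ((EtCoh.bc f).obj V).hom = u :=
    (Category.assoc _ _ _).trans ((congrArg (m ≫ ·) (nbLift_hom f V ρ _)).trans hmu)
  refine Eq.trans ?_ (fibPull_sec hu hmu F _ (nbLift_hom f V ρ (nbMap_hom hz V v)) s _ (he F V v s)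
    (m ≫ nbLift f V ρ (nbMap_hom hz V v)) rfl hρ₁e).symm
  refine Eq.trans ?_ (secAt_θ_inv hu (fibσ w V ρ' h') (fibσ_hom w V ρ' h') _ hρ₁ hρ₁e F s)
  rw [bcFibNat_app]
  refine (congrArg (fun y => hSec _ (e'.app _ y)) (bcQ_germ w (point_comp hm hmz) F V v s)).trans ?_
  refine (he' ((EtCoh.pull g').obj F) ((EtCoh.bc g).obj V) _ _).trans ?_
  exact secAt_map (pullback.fst f' π') (bcSq w V) _ _ _ rfl (fibσ_hom w V ρ' h') _ _

/-- two maps out of a stalk of a direct image agreeing on germs -/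
theorem stalk_ext {Ω : Type u} [Field Ω] [IsSepClosed Ω] (ξ : Spec (CommRingCat.of Ω) ⟶ S) {G : EtCoh.Ab S}
    {M : AddCommGrpCat.{u + 1}} (a b : (EtCoh.stalk ξ).obj G ⟶ M)
    (h : ∀ (V : S.Etale) (v : (Scheme.pointSmallEtale ξ).fiber.obj V) (s : G.obj.obj (op V)),
      a ((Scheme.pointSmallEtale ξ).toPresheafFiber V v G.obj s) =
        b ((Scheme.pointSmallEtale ξ).toPresheafFiber V v G.obj s)) : a = b :=
  (Scheme.pointSmallEtale ξ).presheafFiber_hom_ext fun V v => ConcreteCategory.hom_ext _ _ fun s => h V v s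

include hu hmu hm hmz hm₀ hz hz' in
/-- the two comparisons agree in degree zero -/
theorem bcFibNat_zero [QuasiCompact f] [QuasiSeparated f] [QuasiCompact f'] [QuasiSeparated f']
    [PreservesFiniteLimits (EtCoh.pull g')] [PreservesFiniteLimits (EtCoh.pull m)]
    (e : EtCoh.Rpush f 0 ⋙ EtCoh.stalk (z ≫ π) ⟶ EtCoh.pull (pullback.fst f π) ⋙ EtCoh.HF (pullback f π) 0)
    (he : GermFormula f hz e)
    (e' : EtCoh.Rpush f' 0 ⋙ EtCoh.stalk (z' ≫ π') ⟶ EtCoh.pull (pullback.fst f' π') ⋙ EtCoh.HF (pullback f' π') 0)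
    (he' : GermFormula f' hz' e') :
    bcFibNat f f' g' w π π' (point_comp hm hmz) 0 e' = e ≫ fibPull hu hmu 0 := by
  ext F : 2
  refine (cancel_epi ((EtCoh.stalk (z ≫ π)).map ((EtCoh.push f).toRightDerivedZero.app F))).1 ?_
  refine stalk_ext (z ≫ π) _ _ fun V v s => ?_
  exact bcFib_germ w hu hmu hz hz' hm hmz hm₀ e he e' he' F V v s

theorem bcFibNat_δ [(EtCoh.stalk (z ≫ π)).Additive] [(EtCoh.stalk (z' ≫ π')).Additive]
    [PreservesFiniteLimits (EtCoh.pull g')]
    [PreservesFiniteLimits (EtCoh.pull (pullback.fst f' π'))] (hξ : (z' ≫ π') ≫ g = z ≫ π)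
    (e' : ∀ n, EtCoh.Rpush f' n ⋙ EtCoh.stalk (z' ≫ π') ⟶ EtCoh.pull (pullback.fst f' π') ⋙ EtCoh.HF (pullback f' π') n)
    (heδ' : ∀ (E : ShortComplex (EtCoh.Ab X')) (hE : E.ShortExact) (n : ℕ),
      (stalkSeq f' (z' ≫ π')).δ hE n ≫ (e' (n + 1)).app E.X₁ =
        (e' n).app E.X₃ ≫ (pullHSeq (pullback.fst f' π')).δ hE n)
    (E : ShortComplex (EtCoh.Ab X)) (hE : E.ShortExact) (n : ℕ) :
    (stalkSeq f (z ≫ π)).δ hE n ≫ (bcFibNat f f' g' w π π' hξ (n + 1) (e' (n + 1))).app E.X₁ =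
      (bcFibNat f f' g' w π π' hξ n (e' n)).app E.X₃ ≫ (pullPullSeq g' (pullback.fst f' π')).δ hE n := by
  let δR := (SESResLib.derivedLES (EtCoh.push f)).δ E hE n (n + 1) rfl
  have hE' := hE.map_of_exact (EtCoh.pull g')
  rw [bcFibNat_app, bcFibNat_app]
  refine (Category.assoc _ _ _).symm.trans ?_
  refine (congrArg (· ≫ _) ((stalkToPull hξ).hom.naturality δR)).trans ?_
  refine (Category.assoc _ _ _).trans ?_
  refine Eq.trans ?_ (Category.assoc _ _ _).symm
  refine congrArg (_ ≫ ·) ?_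
  refine Eq.trans ?_ (Category.assoc _ _ _).symm
  refine Eq.trans ?_ (congrArg (_ ≫ ·) (heδ' (E.map (EtCoh.pull g')) hE' n))
  refine (Category.assoc _ _ _).symm.trans (Eq.trans ?_ (Category.assoc _ _ _))
  refine congrArg (· ≫ (e' (n + 1)).app _) ?_
  refine ((EtCoh.stalk (z' ≫ π')).map_comp _ _).symm.trans ?_
  refine Eq.trans ?_ ((EtCoh.stalk (z' ≫ π')).map_comp _ _)
  exact congrArg _ (bcQ_δ f g f' g' w hE hE' n (n + 1) rfl)

theorem bcFibPull_δ [(EtCoh.stalk (z ≫ π)).Additive] [PreservesFiniteLimits (EtCoh.pull m)]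
    [PreservesFiniteLimits (EtCoh.pull g')]
    [PreservesFiniteLimits (EtCoh.pull (pullback.fst f π))] [PreservesFiniteLimits (EtCoh.pull (pullback.fst f' π'))]
    (e : ∀ n, EtCoh.Rpush f n ⋙ EtCoh.stalk (z ≫ π) ⟶ EtCoh.pull (pullback.fst f π) ⋙ EtCoh.HF (pullback f π) n)
    (heδ : ∀ (E : ShortComplex (EtCoh.Ab X)) (hE : E.ShortExact) (n : ℕ),
      (stalkSeq f (z ≫ π)).δ hE n ≫ (e (n + 1)).app E.X₁ =
        (e n).app E.X₃ ≫ (pullHSeq (pullback.fst f π)).δ hE n)
    (E : ShortComplex (EtCoh.Ab X)) (hE : E.ShortExact) (n : ℕ) :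
    (stalkSeq f (z ≫ π)).δ hE n ≫ (e (n + 1) ≫ fibPull hu hmu (n + 1)).app E.X₁ =
      (e n ≫ fibPull hu hmu n).app E.X₃ ≫ (pullPullSeq g' (pullback.fst f' π')).δ hE n :=
  (Category.assoc _ _ _).symm.trans ((congrArg (· ≫ _) (heδ E hE n)).trans
    ((Category.assoc _ _ _).trans ((congrArg (_ ≫ ·) (fibPull_δ hu hmu hE n)).trans (Category.assoc _ _ _).symm)))

theorem isIso_middle_iff {C : Type*} [Category* C] {A₁ A₂ A₃ A₄ B : C} (a : A₁ ⟶ A₂) (b : A₂ ⟶ A₃) (c : A₃ ⟶ A₄)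
    (d : A₁ ⟶ B) (r : B ⟶ A₄) [IsIso a] [IsIso c] [IsIso d] (h : a ≫ b ≫ c = d ≫ r) : IsIso b ↔ IsIso r := by
  refine ((isIso_comp_left_iff a _).trans (isIso_comp_right_iff b c)).symm.trans ?_
  rw [h]
  exact isIso_comp_left_iff d r

include hu hmu hm hmz hm₀ hz hz' in
/-- a stalk of the base change map is bijective iff the pullback between the fibres is -/
theorem isIso_stalk_bcQ_iff [QuasiCompact f] [QuasiSeparated f] [QuasiCompact f'] [QuasiSeparated f']
    [PreservesFiniteLimits (EtCoh.pull g')] [PreservesFiniteLimits (EtCoh.pull m)]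
    (P : EtPres π) (P' : EtPres π') (F : EtCoh.Ab X) (q : ℕ) :
    IsIso ((EtCoh.stalk (z' ≫ π')).map (EtBC.bcQ f g f' g' w q F)) ↔
      Function.Bijective (hVia m (pullback.fst f π) u hmu F q) := by
  haveI : PreservesFiniteLimits (EtCoh.pull (pullback.fst f π)) := pull_preservesFiniteLimits _
  haveI : PreservesFiniteLimits (EtCoh.pull (pullback.fst f' π')) := pull_preservesFiniteLimits _
  haveI : (EtCoh.stalk (z ≫ π)).Additive := Functor.additive_of_preserves_binary_products _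
  haveI : (EtCoh.stalk (z' ≫ π')).Additive := Functor.additive_of_preserves_binary_products _
  obtain ⟨e, he, heδ⟩ := exists_stalk_rpush f P hz
  obtain ⟨e', he', heδ'⟩ := exists_stalk_rpush f' P' hz'
  have hξ := point_comp (z := z) (z' := z') hm hmz
  have h := ConnSeq.hom_unique (G := pullPullSeq g' (pullback.fst f' π'))
    (derivedSeq_effaced (EtCoh.push f) (EtCoh.stalk (z ≫ π)))
    (fun n => bcFibNat f f' g' w π π' hξ n (e' n).hom) (fun n => (e n).hom ≫ fibPull hu hmu n)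
    (fun E hE n => bcFibNat_δ w hξ (fun n => (e' n).hom) heδ' E hE n)
    (fun E hE n => bcFibPull_δ hu hmu (fun n => (e n).hom) heδ E hE n)
    (bcFibNat_zero w hu hmu hz hz' hm hmz hm₀ (e 0).hom he (e' 0).hom he') q
  have hF := congrArg (fun t => NatTrans.app t F) h
  rw [← fibPull_bijective_iff hu hmu F q]
  refine Iff.trans ?_ (ConcreteCategory.isIso_iff_bijective ((fibPull hu hmu q).app F))
  exact isIso_middle_iff ((stalkToPull hξ).hom.app ((EtCoh.Rpush f q).obj F)) _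
    ((e' q).hom.app ((EtCoh.pull g').obj F)) ((e q).hom.app F) _ ((bcFibNat_app w hξ q _ F).symm.trans hF)

end fibre

end Groth.Agent.EtBC
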