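import Groth.Agent.EtBC.CompNKilled
import Groth.Agent.EtBC.CompNSurj
import Groth.Agent.EtBC.Devissage
import Groth.Agent.BcMapZero.Et

/-! the comparison condition descends along surjective morphisms -/

set_option autoImplicit false
set_option linter.style.haveILetI false
universe u

open CategoryTheory CategoryTheory.Limits AlgebraicGeometry Opposite

attribute [local instance] HasDerivedCategory.standard

namespace Groth.Agent.EtBC

open Groth.Agent.EtLimit Groth.Agent.EtFound Groth.Agent.EtLC12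

set_option backward.isDefEq.respectTransparency.types false
set_option maxHeartbeats 1000000

variable {X Y Xb Yb : Scheme.{u}} (h : Y ⟶ X) (p : Xb ⟶ X) (hb : Yb ⟶ Xb) (pY : Yb ⟶ Y) (w : hb ≫ p = pY ≫ h)
  [PreservesFiniteLimits (EtCoh.pull h)] [PreservesFiniteLimits (EtCoh.pull hb)]

include w in
/-- degree zero for a direct image -/
theorem bij_zero_push (J : EtCoh.Ab Xb) (h0 : IsIso (EtCoh.baseChange0 p h pY hb w J))
    (hX : Function.Bijective (EtCore.Hpull hb J 0)) :
    Function.Bijective (EtCore.Hpull h ((EtCoh.push p).obj J) 0) := by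
  rw [Hpull_zero_bijective_iff] at hX ⊢
  have hcomp : IsIso ((EtCoh.baseChange0 p h pY hb w J).hom.app (op ((EtCoh.bc h).obj (EtCoh.top X)))) :=
    inferInstanceAs (IsIso ((sheafToPresheaf _ _ ⋙ (evaluation _ _).obj _).map (EtCoh.baseChange0 p h pY hb w J)))
  haveI hsq' : IsIso (bcSq w (EtCoh.top X)) :=
    IsIso.comp_isIso' (Iso.isIso_inv ((MorphismProperty.Over.pullbackComp (P := EtCoh.etaleMP) (Q := ⊤) pY h).app _))
      (IsIso.comp_isIso' (Iso.isIso_inv ((MorphismProperty.Over.pullbackCongr (P := EtCoh.etaleMP) (Q := ⊤) w).app _))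
        (Iso.isIso_hom ((MorphismProperty.Over.pullbackComp (P := EtCoh.etaleMP) (Q := ⊤) hb p).app _)))
  have hsq := baseChange0_unit w J (EtCoh.top X)
  haveI : IsIso (bcSq w (EtCoh.top X)).op := @isIso_op _ _ _ _ _ hsq'
  have hmap : IsIso (((EtCoh.pull hb).obj J).obj.map (bcSq w (EtCoh.top X)).op) :=
    Functor.map_isIso ((EtCoh.pull hb).obj J).obj _
  let e := (EtCore.bcTopIso p).hom.op
  have hn := ((EtCoh.pullPushAdj hb).unit.app J).hom.naturality e
  have hu : IsIso (((EtCoh.pullPushAdj hb).unit.app J).hom.app (op ((EtCoh.bc p).obj (EtCoh.top X)))) := by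
    haveI := hX
    haveI : IsIso (J.obj.map e ≫
        ((EtCoh.pullPushAdj hb).unit.app J).hom.app (op ((EtCoh.bc p).obj (EtCoh.top X)))) := by
      refine hn.symm ▸ IsIso.comp_isIso' hX ?_
      exact Functor.map_isIso ((EtCoh.pull hb ⋙ EtCoh.push hb).obj J).obj e
    exact IsIso.of_isIso_comp_left (J.obj.map e) _
  refine @IsIso.of_isIso_comp_right _ _ _ _ _ _
    ((EtCoh.baseChange0 p h pY hb w J).hom.app (op ((EtCoh.bc h).obj (EtCoh.top X)))) hcomp ?_
  rw [hsq]
  exact IsIso.comp_isIso' hu hmap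

include w in
/-- comparison for the direct image of a sheaf without cohomology -/
theorem compare_push (n : ℕ) (J : EtCoh.Ab Xb) (hJ : ∀ q, Subsingleton (EtCoh.H Xb J (q + 1)))
    (hR : ∀ j, 1 ≤ j → IsZero ((EtCoh.Rpush p j).obj J)) (h0 : IsIso (EtCoh.baseChange0 p h pY hb w J))
    (hR' : ∀ j, 1 ≤ j → j + 1 ≤ n → IsZero ((EtCoh.Rpush pY j).obj ((EtCoh.pull hb).obj J)))
    (hhb : ∀ q, q ≤ n → Function.Bijective (EtCore.Hpull hb J q)) :
    (∀ q, Subsingleton (EtCoh.H X ((EtCoh.push p).obj J) (q + 1))) ∧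
    (∀ q, q + 1 ≤ n → Subsingleton (EtCoh.H Y ((EtCoh.pull h).obj ((EtCoh.push p).obj J)) (q + 1))) ∧
    ∀ q, q ≤ n → Function.Bijective (EtCore.Hpull h ((EtCoh.push p).obj J) q) := by
  haveI : PreservesFiniteLimits (EtCoh.pull p) := pull_preservesFiniteLimits _
  haveI : PreservesFiniteLimits (EtCoh.pull pY) := pull_preservesFiniteLimits _
  have hX : ∀ q, Subsingleton (EtCoh.H X ((EtCoh.push p).obj J) (q + 1)) := fun q =>
    (subsingleton_H_push_iff p J (q + 1) (fun j hj _ => hR j hj) (q + 1) le_rfl).2 (hJ q)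
  have hY : ∀ q, q + 1 ≤ n → Subsingleton (EtCoh.H Y ((EtCoh.pull h).obj ((EtCoh.push p).obj J)) (q + 1)) := by
    intro q hq
    haveI := hJ q
    haveI : Subsingleton (EtCoh.H Yb ((EtCoh.pull hb).obj J) (q + 1)) := ((hhb (q + 1) hq).2).subsingleton
    haveI : Subsingleton (EtCoh.H Y ((EtCoh.push pY).obj ((EtCoh.pull hb).obj J)) (q + 1)) :=
      @Function.Injective.subsingleton _ _ _ (injective_hThen_counit pY ((EtCoh.pull hb).obj J) q (fun j hj hjq => hR' j hj (by omega))) ‹_›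
    exact (hmap_bijective_of_isIso (EtCoh.baseChange0 p h pY hb w J) (q + 1)).1.subsingleton
  refine ⟨hX, hY, fun q hq => ?_⟩
  cases q with
  | zero => exact bij_zero_push h p hb pY w J h0 (hhb 0 (Nat.zero_le _))
  | succ q => exact ⟨fun _ _ _ => (hX q).elim _ _, fun y => ⟨0, (hY q hq).elim _ _⟩⟩

include w in
/-- the comparison condition descends along surjective morphisms -/
theorem compN_descent [CompactSpace X] [QuasiSeparatedSpace X] [CompactSpace Y] [QuasiSeparatedSpace Y]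
    [Surjective p] (L : Set ℕ) (n : ℕ) (hn : 1 ≤ n) (hhb : EtAcyc.CompN hb L n)
    [DCoh.HasRpushEt Xb p] [DCoh.HasRpushEt Yb pY] [DCoh.HasRpushEt Y h]
    (adj : EtBC.pullD h ⊣ DCoh.RpushEt Y h)
    (hbc : ∀ Fb : EtCoh.Ab Xb, EtAcyc.IsLTorsion L Fb → ∀ i : ℤ, i ≤ (n : ℤ) - 1 →
      IsIso ((DerivedCategory.homologyFunctor (EtCoh.Ab Y) i).map (EtBC.bcMap p h pY hb w adj (EtBC.single Xb Fb))))
    (F : EtCoh.Ab X) (hF : EtAcyc.IsLTorsion L F) :
    (∀ q, q ≤ n → Function.Bijective (EtCore.Hpull h F q)) ∧ Function.Injective (EtCore.Hpull h F (n + 1)) := by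
  refine compN_of_killed h L n (fun m hm G hG => ?_) F hF
  have tor : ∀ (M : EtCoh.Ab Xb), EtCoh.KilledBy m M → EtAcyc.IsLTorsion L M := fun M hM U s x =>
    ⟨U, 𝟙 U, m, ⟨x, rfl⟩, hm, by rw [op_id, CategoryTheory.Functor.map_id]; exact hM U s⟩
  have emb : ∀ G : EtCoh.Ab X, EtCoh.KilledBy m G → ∃ (K : EtCoh.Ab X) (a : G ⟶ K), Mono a ∧ EtCoh.KilledBy m K ∧
      (∀ q, Subsingleton (EtCoh.H X K (q + 1))) ∧
      (∀ q, q + 1 ≤ n → Subsingleton (EtCoh.H Y ((EtCoh.pull h).obj K) (q + 1))) ∧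
      ∀ q, q ≤ n → Function.Bijective (EtCore.Hpull h K q) := by
    intro G hG
    obtain ⟨J, i, hi, hJm, hJ⟩ := exists_mono_flasque _ (killedBy_pull p hG)
    have hJt := tor J hJm
    have hR : ∀ j, 1 ≤ j → IsZero ((EtCoh.Rpush p j).obj J) := fun j hj => by
      obtain ⟨k, rfl⟩ : ∃ k, j = k + 1 := ⟨j - 1, by omega⟩
      exact isZero_rpush_of_isCechAcyclic p k J hJ
    have h0 := BcMapZero.isIso_baseChange0_of_bcMap p h pY hb w adj J (hbc J hJt 0 (by omega))
    have hR' : ∀ j, 1 ≤ j → j + 1 ≤ n → IsZero ((EtCoh.Rpush pY j).obj ((EtCoh.pull hb).obj J)) := fun j hj hjn =>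
      BcMapZero.isZero_rpush_of_bcMap p h pY hb w adj J j (hR j hj) (hbc J hJt j (by omega))
    obtain ⟨h1, h2, h3⟩ := compare_push h p hb pY w n J (fun q => FlasqueAcyclic.subsingleton_H q J hJ) hR h0 hR'
      (hhb J hJt).1
    exact ⟨_, _, mono_homEquiv p i, killedBy_push p hJm, h1, h2, h3⟩
  have inj0 : ∀ G : EtCoh.Ab X, EtCoh.KilledBy m G → Function.Injective (EtCore.Hpull h G 0) := by
    intro G hG x y hxy
    obtain ⟨K, a, ha, -, -, -, hb3⟩ := emb G hG
    refine hmap_zero_injective a ((hb3 0 (Nat.zero_le _)).1 ?_)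
    rw [Hpull_hmap, Hpull_hmap, hxy]
  have surj0 : ∀ G : EtCoh.Ab X, EtCoh.KilledBy m G → Function.Surjective (EtCore.Hpull h G 0) := by
    intro G hG y
    obtain ⟨K, a, ha, hK, -, -, hb3⟩ := emb G hG
    let E := ShortComplex.mk a (cokernel.π a) (cokernel.condition a)
    have hE : E.ShortExact := { exact := ShortComplex.exact_of_g_is_cokernel _ (cokernelIsCokernel _) }
    haveI : PreservesFiniteLimits (EtCoh.pull h) := ‹_›
    haveI : PreservesColimitsOfSize.{0, 0} (EtCoh.pull h) := (EtCoh.pullPushAdj h).leftAdjoint_preservesColimits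
    haveI : (EtCoh.pull h).Additive := Functor.additive_of_preserves_binary_products _
    obtain ⟨k, hk⟩ := (hb3 0 (Nat.zero_le _)).2 (hmap ((EtCoh.pull h).map a) 0 y)
    have hk0 : hmap (cokernel.π a) 0 k = 0 := by
      refine inj0 _ (killedBy_of_epi (cokernel.π a) hK) ?_
      rw [Hpull_hmap, hk, map_zero, hmap_comp, ← Functor.map_comp, cokernel.condition, Functor.map_zero, hmap_zero_map]
    obtain ⟨x, rfl⟩ := exists_hmap_of_hmap_eq_zero hE 0 k hk0
    haveI : Mono ((EtCoh.pull h).map a) := Functor.map_mono _ _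
    refine ⟨x, hmap_zero_injective ((EtCoh.pull h).map a) ?_⟩
    rw [← hk, Hpull_hmap]
  have main : ∀ q, q ≤ n → ∀ G : EtCoh.Ab X, EtCoh.KilledBy m G → Function.Bijective (EtCore.Hpull h G q) := by
    intro q
    induction q with
    | zero => exact fun _ G hG => ⟨inj0 G hG, surj0 G hG⟩
    | succ q ih =>
      intro hq G hG
      obtain ⟨K, a, ha, hK, h1, h2, h3⟩ := emb G hG
      exact ⟨injective_Hpull_succ h a q (h1 q) (h3 q (by omega)) (ih (by omega) _ (killedBy_of_epi (cokernel.π a) hK)).1,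
        surjective_Hpull_succ h a q (h2 q hq) (ih (by omega) _ (killedBy_of_epi (cokernel.π a) hK)).2⟩
  refine ⟨fun q hq => main q hq G hG, ?_⟩
  obtain ⟨K, a, ha, hK, h1, -, h3⟩ := emb G hG
  exact injective_Hpull_succ h a n (h1 n) (h3 n le_rfl) (main n le_rfl _ (killedBy_of_epi (cokernel.π a) hK)).1

end Groth.Agent.EtBC
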