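import Groth.Agent.EtBC.Square
import Groth.Agent.EtLC12.AffineLocalAcyclic

/-! étale base change in degree zero -/

set_option autoImplicit false
set_option linter.style.haveILetI false
universe u

open CategoryTheory CategoryTheory.Limits AlgebraicGeometry Opposite

namespace Groth.Agent.EtBC

open Groth.Agent.EtFound

set_option backward.isDefEq.respectTransparency.types false
set_option maxHeartbeats 1000000

section restr

variable {U X : Scheme.{u}} (j : U ⟶ X) [AlgebraicGeometry.Etale j]

/-- the counit on small étale sites -/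
noncomputable def restrε (V : X.Etale) : (EtShriek.compEtale j).obj ((EtCoh.bc j).obj V) ⟶ V :=
  MorphismProperty.Over.homMk (pullback.fst V.hom j) pullback.condition

theorem restrε_left (V : X.Etale) : (restrε j V).left = pullback.fst V.hom j := rfl

variable [EtShriek.JCont j]

/-- the comparison of restriction with the inverse image, on the image of a section -/
theorem restrIsoPull_unit (G : EtCoh.Ab X) (V : X.Etale) (s : G.obj.obj (op V)) :
    ((EtLC12.AffineLocalAcyclic.restrIsoPull j).hom.app G).hom.app (op ((EtCoh.bc j).obj V))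
        (G.obj.map (restrε j V).op s) =
      ((EtCoh.pullPushAdj j).unit.app G).hom.app (op V) s := by
  let a : EtShriek.compEtale j ⊣ EtCoh.bc j :=
    MorphismProperty.Over.mapPullbackAdj EtCoh.etaleMP ⊤ j
      (inferInstanceAs (AlgebraicGeometry.Etale j)) trivial
  have h := Adjunction.unit_leftAdjointUniq_hom_app (a.sheafPushforwardContinuous
    (E := AddCommGrpCat.{u + 1}) U.smallEtaleTopology X.smallEtaleTopology) (EtCoh.pullPushAdj j) G
  have he : a.counit.app V = restrε j V := by
    apply MorphismProperty.Over.Hom.ext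
    simp [a, restrε, MorphismProperty.Over.mapPullbackAdj]
  refine Eq.trans ?_ (ConcreteCategory.congr_hom (congrArg (fun φ => φ.hom.app (op V)) h) s)
  rw [← he]
  rfl

end restr

variable {X S X' S' : Scheme.{u}} {f : X ⟶ S} {g : S' ⟶ S} {f' : X' ⟶ S'} {g' : X' ⟶ X}
  [AlgebraicGeometry.Etale g] [AlgebraicGeometry.Etale g'] (c : IsPullback g' f' f g)

/-- `W ×_{S'} X' ≅ W ×_S X` -/
noncomputable def compBCIso (W : S'.Etale) :
    (EtShriek.compEtale g').obj ((EtCoh.bc f').obj W) ≅ (EtCoh.bc f).obj ((EtShriek.compEtale g).obj W) :=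
  MorphismProperty.Over.isoMk
    (((IsPullback.of_hasPullback W.hom f').paste_vert c.flip).isoPullback :
      pullback W.hom f' ≅ pullback (W.hom ≫ g) f)
    (((IsPullback.of_hasPullback W.hom f').paste_vert c.flip).isoPullback_hom_snd)

theorem compBCIso_fst (W : S'.Etale) :
    ((compBCIso c W).hom.left : pullback W.hom f' ⟶ pullback (W.hom ≫ g) f) ≫ pullback.fst (W.hom ≫ g) f =
      pullback.fst W.hom f' :=
  ((IsPullback.of_hasPullback W.hom f').paste_vert c.flip).isoPullback_hom_fst

variable [EtShriek.JCont g] [EtShriek.JCont g']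

/-- the comparison of restrictions of direct images -/
noncomputable def restrBC (F : EtCoh.Ab X) :
    (EtShriek.restrAlong g).obj ((EtCoh.push f).obj F) ⟶ (EtCoh.push f').obj ((EtShriek.restrAlong g').obj F) where
  hom :=
    { app := fun W => F.obj.map (compBCIso c W.unop).hom.op
      naturality := fun W W' b => by
        change F.obj.map ((EtCoh.bc f).map ((EtShriek.compEtale g).map b.unop)).op ≫ _ =
          _ ≫ F.obj.map ((EtShriek.compEtale g').map ((EtCoh.bc f').map b.unop)).op
        rw [← Functor.map_comp, ← Functor.map_comp, ← op_comp, ← op_comp]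
        refine congrArg (fun m => F.obj.map (Quiver.Hom.op m)) ?_
        apply MorphismProperty.Over.Hom.ext
        apply pullback.hom_ext
        · refine (Category.assoc _ _ _).trans ?_
          refine (congrArg (_ ≫ ·) (EtCoh.isPullback_bc_map f ((EtShriek.compEtale g).map b.unop)).w).trans ?_
          refine (Category.assoc _ _ _).symm.trans ?_
          refine (congrArg (· ≫ _) (compBCIso_fst c W'.unop)).trans ?_
          refine Eq.trans ?_ (Category.assoc _ _ _).symm
          refine Eq.trans ?_ (congrArg (_ ≫ ·) (compBCIso_fst c W.unop)).symm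
          exact (EtCoh.isPullback_bc_map f' b.unop).w.symm
        · exact (MorphismProperty.Over.w ((compBCIso c W'.unop).hom ≫
            (EtCoh.bc f).map ((EtShriek.compEtale g).map b.unop))).trans
            (MorphismProperty.Over.w ((EtShriek.compEtale g').map ((EtCoh.bc f').map b.unop) ≫
              (compBCIso c W.unop).hom)).symm }

instance isIso_restrBC (F : EtCoh.Ab X) : IsIso (restrBC c F) := by
  haveI : IsIso (restrBC c F).hom := by
    haveI : ∀ W, IsIso ((restrBC c F).hom.app W) := fun W =>
      inferInstanceAs (IsIso (F.obj.map (compBCIso c W.unop).hom.op))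
    exact NatIso.isIso_of_isIso_app _
  haveI : IsIso ((sheafToPresheaf _ _).map (restrBC c F)) := inferInstanceAs (IsIso (restrBC c F).hom)
  exact isIso_of_reflects_iso _ (sheafToPresheaf _ _)

theorem baseChange0_etale (F : EtCoh.Ab X) :
    (EtLC12.AffineLocalAcyclic.restrIsoPull g).hom.app ((EtCoh.push f).obj F) ≫
        EtCoh.baseChange0 f g f' g' c.w F =
      restrBC c F ≫ (EtCoh.push f').map ((EtLC12.AffineLocalAcyclic.restrIsoPull g').hom.app F) := by
  let a : EtShriek.compEtale g ⊣ EtCoh.bc g :=
    MorphismProperty.Over.mapPullbackAdj EtCoh.etaleMP ⊤ g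
      (inferInstanceAs (AlgebraicGeometry.Etale g)) trivial
  apply ((a.sheafPushforwardContinuous
    (E := AddCommGrpCat.{u + 1}) S'.smallEtaleTopology S.smallEtaleTopology).homEquiv _ _).injective
  simp only [Adjunction.homEquiv_unit]
  ext ⟨V⟩ : 3
  refine ConcreteCategory.hom_ext _ _ fun s => ?_
  have he : a.counit.app V = restrε g V := by
    apply MorphismProperty.Over.Hom.ext
    simp [a, restrε, MorphismProperty.Over.mapPullbackAdj]
  let P := op ((EtCoh.bc g).obj V)
  let θ' := ((EtLC12.AffineLocalAcyclic.restrIsoPull g').hom.app F).hom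
  change (EtCoh.baseChange0 f g f' g' c.w F).hom.app P
      (((EtLC12.AffineLocalAcyclic.restrIsoPull g).hom.app ((EtCoh.push f).obj F)).hom.app P
        (((EtCoh.push f).obj F).obj.map (a.counit.app V).op s)) =
    θ'.app (op ((EtCoh.bc f').obj P.unop))
      (F.obj.map (compBCIso c P.unop).hom.op (((EtCoh.push f).obj F).obj.map (a.counit.app V).op s))
  rw [he]
  refine (congrArg ((EtCoh.baseChange0 f g f' g' c.w F).hom.app P) (restrIsoPull_unit g _ V s)).trans ?_
  refine (ConcreteCategory.congr_hom (baseChange0_unit c.w F V) s).trans ?_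
  refine (congrArg (((EtCoh.pull g').obj F).obj.map (bcSq c.w V).op)
    (restrIsoPull_unit g' F ((EtCoh.bc f).obj V) s).symm).trans ?_
  refine (NatTrans.naturality_apply θ' (bcSq c.w V).op _).symm.trans ?_
  refine congrArg (θ'.app _) ?_
  have key : (EtShriek.compEtale g').map (bcSq c.w V) ≫ restrε g' ((EtCoh.bc f).obj V) =
      (compBCIso c ((EtCoh.bc g).obj V)).hom ≫ (EtCoh.bc f).map (restrε g V) := by
    apply MorphismProperty.Over.Hom.ext
    apply pullback.hom_ext
    · refine Eq.trans ?_ (Category.assoc _ _ _).symm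
      refine Eq.trans ?_ (congrArg (_ ≫ ·) (EtCoh.isPullback_bc_map f (restrε g V)).w).symm
      refine Eq.trans ?_ (Category.assoc _ _ _)
      refine Eq.trans ?_ (congrArg (· ≫ pullback.fst V.hom g) (compBCIso_fst c ((EtCoh.bc g).obj V))).symm
      exact (Category.assoc _ _ _).trans (bcSq_fst c.w V)
    · exact (MorphismProperty.Over.w ((EtShriek.compEtale g').map (bcSq c.w V) ≫
        restrε g' ((EtCoh.bc f).obj V))).trans
        (MorphismProperty.Over.w ((compBCIso c ((EtCoh.bc g).obj V)).hom ≫ (EtCoh.bc f).map (restrε g V))).symm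
  change (F.obj.map (restrε g' ((EtCoh.bc f).obj V)).op ≫ F.obj.map ((EtShriek.compEtale g').map (bcSq c.w V)).op) s =
    (F.obj.map ((EtCoh.bc f).map (restrε g V)).op ≫ F.obj.map (compBCIso c ((EtCoh.bc g).obj V)).hom.op) s
  rw [← Functor.map_comp, ← Functor.map_comp, ← op_comp, ← op_comp, key]

include c in
omit [EtShriek.JCont g] [EtShriek.JCont g'] in
theorem isIso_baseChange0_etale (F : EtCoh.Ab X) : IsIso (EtCoh.baseChange0 f g f' g' c.w F) := by
  haveI := EtFound.jCont g
  haveI := EtFound.jCont g'
  haveI : IsIso ((EtLC12.AffineLocalAcyclic.restrIsoPull g).hom.app ((EtCoh.push f).obj F) ≫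
      EtCoh.baseChange0 f g f' g' c.w F) := by
    rw [baseChange0_etale c F]
    infer_instance
  exact IsIso.of_isIso_comp_left ((EtLC12.AffineLocalAcyclic.restrIsoPull g).hom.app ((EtCoh.push f).obj F)) _

end Groth.Agent.EtBC
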