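import Groth.Agent.EtBC.Devissage
import Groth.Agent.EtFound.PullStalk

/-! injectivity of base change morphisms one degree above bijectivity -/

set_option autoImplicit false
set_option linter.style.haveILetI false
universe u

open CategoryTheory CategoryTheory.Limits AlgebraicGeometry Opposite

namespace Groth.Agent.EtBC

open Groth.Agent.EtFound

set_option backward.isDefEq.respectTransparency.types false
set_option maxHeartbeats 1000000

variable {X S X' S' : Scheme.{u}} {f : X ⟶ S} {g : S' ⟶ S} {f' : X' ⟶ S'} {g' : X' ⟶ X} (w : g' ≫ f = f' ≫ g)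
  [PreservesFiniteLimits (EtCoh.pull g')] (n q : ℕ)
  (hq : ∀ G : EtCoh.Ab X, EtCoh.KilledBy n G → IsIso (EtBC.bcQ f g f' g' w q G))

include hq in
/-- bijectivity in degree `q` gives injectivity in degree `q + 1` -/
theorem mono_bcQ_succ (F : EtCoh.Ab X) (hF : EtCoh.KilledBy n F) : Mono (EtBC.bcQ f g f' g' w (q + 1) F) := by
  haveI : PreservesFiniteLimits (EtCoh.pull g) := pull_preservesFiniteLimits _
  haveI : (EtCoh.pull g).Additive := Functor.additive_of_preserves_binary_products _
  haveI : PreservesColimitsOfSize.{0, 0} (EtCoh.pull g) := (EtCoh.pullPushAdj g).leftAdjoint_preservesColimits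
  haveI : PreservesColimitsOfSize.{0, 0} (EtCoh.pull g') := (EtCoh.pullPushAdj g').leftAdjoint_preservesColimits
  obtain ⟨J, i, hi, hJ, hacyc⟩ := exists_mono_acyclic F hF
  let E := ShortComplex.mk i (cokernel.π i) (cokernel.condition i)
  have hE : E.ShortExact := { exact := ShortComplex.exact_of_g_is_cokernel _ (cokernelIsCokernel _) }
  have hE' := hE.map_of_exact (EtCoh.pull g')
  let L := SESResLib.derivedLES (EtCoh.push f)
  let L' := SESResLib.derivedLES (EtCoh.push f')
  haveI : Epi (L.δ E hE q (q + 1) rfl) := (L.exact₁ E hE q (q + 1) rfl).epi_f ((hacyc f q).eq_of_tgt _ _)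
  haveI := hq E.X₂ hJ
  haveI := hq E.X₃ (killedBy_of_epi (cokernel.π i) hJ)
  refine mono_of_ladder (d := (EtCoh.pull g).map (L.δ E hE q (q + 1) rfl))
    (u := (EtCoh.pull g).map ((EtCoh.Rpush f q).map E.g)) ?_
    (u' := (EtCoh.Rpush f' q).map ((EtCoh.pull g').map E.g))
    (L'.comp_δ (E.map (EtCoh.pull g')) hE' q (q + 1) rfl) (L'.exact₃ (E.map (EtCoh.pull g')) hE' q (q + 1) rfl)
    (bcQ_naturality f g f' g' w q E.g) (bcQ_δ f g f' g' w hE hE' q (q + 1) rfl)
  exact ((EtCoh.pull g).map_comp _ _).symm.trans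
    ((congrArg _ (L.comp_δ E hE q (q + 1) rfl)).trans ((EtCoh.pull g).map_zero _ _))

include hq in
/-- the cokernels of the base change morphisms in degree `q + 1` form a left exact functor -/
theorem mono_cokernel_map_bcQ {F G : EtCoh.Ab X} (ι : F ⟶ G) [Mono ι] (hG : EtCoh.KilledBy n G) :
    Mono (cokernel.map (EtBC.bcQ f g f' g' w (q + 1) F) (EtBC.bcQ f g f' g' w (q + 1) G)
      ((EtCoh.pull g).map ((EtCoh.Rpush f (q + 1)).map ι)) ((EtCoh.Rpush f' (q + 1)).map ((EtCoh.pull g').map ι))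
      (bcQ_naturality f g f' g' w (q + 1) ι).symm) := by
  haveI : PreservesFiniteLimits (EtCoh.pull g) := pull_preservesFiniteLimits _
  haveI : (EtCoh.pull g).Additive := Functor.additive_of_preserves_binary_products _
  haveI : PreservesColimitsOfSize.{0, 0} (EtCoh.pull g) := (EtCoh.pullPushAdj g).leftAdjoint_preservesColimits
  haveI : PreservesColimitsOfSize.{0, 0} (EtCoh.pull g') := (EtCoh.pullPushAdj g').leftAdjoint_preservesColimits
  let E := ShortComplex.mk ι (cokernel.π ι) (cokernel.condition ι)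
  have hE : E.ShortExact := { exact := ShortComplex.exact_of_g_is_cokernel _ (cokernelIsCokernel _) }
  have hE' := hE.map_of_exact (EtCoh.pull g')
  let L := SESResLib.derivedLES (EtCoh.push f)
  let L' := SESResLib.derivedLES (EtCoh.push f')
  have hH := killedBy_of_epi (cokernel.π ι) hG
  have h0 : Epi (EtBC.bcQ f g f' g' w q E.X₃) := by
    haveI := hq E.X₃ hH
    infer_instance
  have h3 : Mono (EtBC.bcQ f g f' g' w (q + 1) E.X₃) := mono_bcQ_succ w n q hq E.X₃ hH
  refine @mono_cokernelMap_of_ladder _ _ _ _ _ _ _ _ _ _ _ ((EtCoh.pull g).map (L.δ E hE q (q + 1) rfl)) _ _ _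
    ((L.exact₂ E hE (q + 1)).map (EtCoh.pull g)) _ _ ((EtCoh.Rpush f' (q + 1)).map ((EtCoh.pull g').map E.g))
    (L'.δ_comp (E.map (EtCoh.pull g')) hE' q (q + 1) rfl) ?_
    (L'.exact₁ (E.map (EtCoh.pull g')) hE' q (q + 1) rfl) _ h0 _ _ _ h3
    (bcQ_δ f g f' g' w hE hE' q (q + 1) rfl) (bcQ_naturality f g f' g' w (q + 1) ι)
    (bcQ_naturality f g f' g' w (q + 1) E.g)
  exact ((EtCoh.Rpush f' (q + 1)).map_comp _ _).symm.trans
    ((congrArg _ (E.map (EtCoh.pull g')).zero).trans ((EtCoh.Rpush f' (q + 1)).map_zero _ _))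

end Groth.Agent.EtBC
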