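import Groth.Agent.EtBC.Square
import Groth.Agent.EtLimit.Mates
import Groth.Agent.EtBC.Paste0

/-! stacking of base change morphisms in degree zero -/

set_option autoImplicit false
set_option linter.style.haveILetI false
universe u

open CategoryTheory CategoryTheory.Limits AlgebraicGeometry Opposite

namespace Groth.Agent.EtBC

open Groth.Agent.EtLimit Groth.Agent.EtFound

set_option backward.isDefEq.respectTransparency.types false
set_option maxHeartbeats 1000000

variable {X Y S X' Y' S' : Scheme.{u}} {a : X ⟶ Y} {b : Y ⟶ S} {g : S' ⟶ S} {a' : X' ⟶ Y'} {b' : Y' ⟶ S'}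
  {gX : X' ⟶ X} {gY : Y' ⟶ Y}

/-- morphisms into a threefold base change are determined by their component in the bottom object -/
theorem bc_bc_bc_hom_ext {V : S.Etale} {U : X'.Etale}
    (p q : U ⟶ (EtCoh.bc gX).obj ((EtCoh.bc a).obj ((EtCoh.bc b).obj V)))
    (h : p.left ≫ pullback.fst (pullback.snd (pullback.snd V.hom b) a) gX ≫
        pullback.fst (pullback.snd V.hom b) a ≫ pullback.fst V.hom b =
      q.left ≫ pullback.fst (pullback.snd (pullback.snd V.hom b) a) gX ≫
        pullback.fst (pullback.snd V.hom b) a ≫ pullback.fst V.hom b) : p = q := by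
  refine bc_bc_hom_ext gX a p q ?_
  have hs : p.left ≫ pullback.snd (pullback.snd (pullback.snd V.hom b) a) gX =
      q.left ≫ pullback.snd (pullback.snd (pullback.snd V.hom b) a) gX :=
    (MorphismProperty.Over.w p).trans (MorphismProperty.Over.w q).symm
  have c : (pullback.fst (pullback.snd (pullback.snd V.hom b) a) gX ≫
      pullback.fst (pullback.snd V.hom b) a) ≫ pullback.snd V.hom b =
      pullback.snd (pullback.snd (pullback.snd V.hom b) a) gX ≫ gX ≫ a := by
    rw [Category.assoc, pullback.condition (f := pullback.snd V.hom b) (g := a), ← Category.assoc,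
      pullback.condition, Category.assoc]
  refine pullback.hom_ext ?_ ?_
  · exact ((Category.assoc _ _ _).trans (congrArg (p.left ≫ ·) (Category.assoc _ _ _))).trans
      (h.trans ((Category.assoc _ _ _).trans (congrArg (q.left ≫ ·) (Category.assoc _ _ _))).symm)
  · refine (Category.assoc _ _ _).trans ((congrArg (p.left ≫ ·) c).trans ?_)
    refine Eq.trans ?_ ((Category.assoc _ _ _).trans (congrArg (q.left ≫ ·) c)).symm
    exact (Category.assoc _ _ _).symm.trans ((congrArg (· ≫ gX ≫ a) hs).trans (Category.assoc _ _ _))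

/-- the comparison of a base change along a composite -/
noncomputable def compMap (a : X ⟶ Y) (b : Y ⟶ S) (V : S.Etale) :
    (EtCoh.bc (a ≫ b)).obj V ⟶ (EtCoh.bc a).obj ((EtCoh.bc b).obj V) :=
  (MorphismProperty.Over.pullbackComp (P := EtCoh.etaleMP) (Q := ⊤) a b).hom.app V

theorem compMap_fst (a : X ⟶ Y) (b : Y ⟶ S) (V : S.Etale) :
    (compMap a b V).left ≫ pullback.fst (pullback.snd V.hom b) a ≫ pullback.fst V.hom b =
      pullback.fst V.hom (a ≫ b) :=
  MorphismProperty.Over.pullbackComp_left_fst_fst a b V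

theorem bcMap_fst {X Y : Scheme.{u}} (h : Y ⟶ X) {U V : X.Etale} (m : U ⟶ V) {T : Scheme.{u}} (r : V.left ⟶ T) :
    ((EtCoh.bc h).map m).left ≫ pullback.fst V.hom h ≫ r = pullback.fst U.hom h ≫ m.left ≫ r :=
  (Category.assoc _ _ _).symm.trans ((congrArg (· ≫ r) (EtCoh.isPullback_bc_map h m).w).trans (Category.assoc _ _ _))

theorem bcSq_fst_assoc' {X S X' S' : Scheme.{u}} {f : X ⟶ S} {g : S' ⟶ S} {f' : X' ⟶ S'} {g' : X' ⟶ X}
    (w : g' ≫ f = f' ≫ g) (V : S.Etale) {T : Scheme.{u}} (r : V.left ⟶ T) :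
    (bcSq w V).left ≫ pullback.fst (pullback.snd V.hom f) g' ≫ pullback.fst V.hom f ≫ r =
      pullback.fst (pullback.snd V.hom g) f' ≫ pullback.fst V.hom g ≫ r := by
  have e := congrArg (· ≫ r) (bcSq_fst w V)
  exact ((congrArg (_ ≫ ·) (Category.assoc _ _ _).symm).trans (Category.assoc _ _ _).symm).trans
    (e.trans (Category.assoc _ _ _))

theorem compMap_fst_assoc' (a : X ⟶ Y) (b : Y ⟶ S) (V : S.Etale) {T : Scheme.{u}} (r : V.left ⟶ T) :
    (compMap a b V).left ≫ pullback.fst (pullback.snd V.hom b) a ≫ pullback.fst V.hom b ≫ r =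
      pullback.fst V.hom (a ≫ b) ≫ r :=
  ((congrArg (_ ≫ ·) (Category.assoc _ _ _).symm).trans (Category.assoc _ _ _).symm).trans
    (congrArg (· ≫ r) (compMap_fst a b V))

theorem lhs_rhs {C : Type*} [Category C] {A B₁ B₂ D E F T : C} (s : A ⟶ B₁) {m : B₁ ⟶ B₂} {x : B₂ ⟶ T}
    {y : B₁ ⟶ T} (h₁ : m ≫ x = y) {z : A ⟶ T} (h₂ : s ≫ y = z) (c : A ⟶ D) (n : D ⟶ E) {k : E ⟶ F} {x' : F ⟶ T}
    {y' : E ⟶ T} (h₃ : k ≫ x' = y') {y'' : D ⟶ T} (h₄ : n ≫ y' = y'') {z' : A ⟶ T} (h₅ : c ≫ y'' = z')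
    (hx : z = z' := by rfl) : (s ≫ m) ≫ x = (c ≫ n ≫ k) ≫ x' := by
  rw [Category.assoc, h₁, h₂, Category.assoc, Category.assoc, h₃, h₄, h₅, hx]

variable (wb : gY ≫ b = b' ≫ g) (wa : gX ≫ a = a' ≫ gY) (wab : gX ≫ a ≫ b = (a' ≫ b') ≫ g)

theorem bcSq_stack (V : S.Etale) :
    bcSq wab V ≫ (EtCoh.bc gX).map (compMap a b V) =
      compMap a' b' ((EtCoh.bc g).obj V) ≫ (EtCoh.bc a').map (bcSq wb V) ≫ bcSq wa ((EtCoh.bc b).obj V) := by
  let r := pullback.fst V.hom b
  refine bc_bc_bc_hom_ext _ _ ?_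
  have l1 := bcMap_fst gX (compMap a b V) (pullback.fst (pullback.snd V.hom b) a ≫ r)
  have l2 := (congrArg (pullback.fst (pullback.snd V.hom (a ≫ b)) gX ≫ ·) (compMap_fst a b V))
  have r1 := bcSq_fst_assoc' wa ((EtCoh.bc b).obj V) r
  have r2 := bcMap_fst a' (bcSq wb V) (pullback.fst (pullback.snd V.hom b) gY ≫ r)
  have r3 := congrArg (pullback.fst (pullback.snd (pullback.snd V.hom g) b') a' ≫ ·) (bcSq_fst wb V)
  have r4 := compMap_fst_assoc' a' b' ((EtCoh.bc g).obj V) (pullback.fst V.hom g)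
  exact lhs_rhs (bcSq wab V).left (l1.trans l2) (bcSq_fst wab V) (compMap a' b' ((EtCoh.bc g).obj V)).left
    ((EtCoh.bc a').map (bcSq wb V)).left r1 (r2.trans r3) r4

/-- base change morphisms in degree zero stack -/
theorem baseChange0_stack (F : EtCoh.Ab X) :
    (EtCoh.pull g).map ((EtCoh.pushComp b a).hom.app F) ≫ EtCoh.baseChange0 (a ≫ b) g (a' ≫ b') gX wab F =
      EtCoh.baseChange0 b g b' gY wb ((EtCoh.push a).obj F) ≫
        (EtCoh.push b').map (EtCoh.baseChange0 a gY a' gX wa F) ≫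
          (EtCoh.pushComp b' a').hom.app ((EtCoh.pull gX).obj F) := by
  apply ((EtCoh.pullPushAdj g).homEquiv _ _).injective
  simp only [Adjunction.homEquiv_unit]
  ext ⟨V⟩ : 3
  refine ConcreteCategory.hom_ext _ _ fun s => ?_
  let c := EtCoh.baseChange0 (a ≫ b) g (a' ≫ b') gX wab F
  let cb := EtCoh.baseChange0 b g b' gY wb ((EtCoh.push a).obj F)
  let ca := EtCoh.baseChange0 a gY a' gX wa F
  let Q := (EtCoh.pull gX).obj F
  let W := (EtCoh.bc g).obj V
  let t := ((EtCoh.pullPushAdj g).unit.app ((EtCoh.push b).obj ((EtCoh.push a).obj F))).hom.app (op V) s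
  let u := ((EtCoh.pullPushAdj gX).unit.app F).hom.app (op ((EtCoh.bc a).obj ((EtCoh.bc b).obj V))) s
  change c.hom.app (op W) (((EtCoh.pull g).map ((EtCoh.pushComp b a).hom.app F)).hom.app (op W) t) =
    Q.obj.map (compMap a' b' W).op (ca.hom.app (op ((EtCoh.bc b').obj W)) (cb.hom.app (op W) t))
  have e0 : ((EtCoh.pull g).map ((EtCoh.pushComp b a).hom.app F)).hom.app (op W) t =
      ((EtCoh.pullPushAdj g).unit.app ((EtCoh.push (a ≫ b)).obj F)).hom.app (op V) (F.obj.map (compMap a b V).op s) :=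
    (ConcreteCategory.congr_hom (congrArg (fun p => p.hom.app (op V))
      ((EtCoh.pullPushAdj g).unit.naturality ((EtCoh.pushComp b a).hom.app F))) s).symm
  refine (congrArg (c.hom.app (op W)) e0).trans ?_
  refine (ConcreteCategory.congr_hom (baseChange0_unit wab F V) _).trans ?_
  have e1 : ((EtCoh.pullPushAdj gX).unit.app F).hom.app (op ((EtCoh.bc (a ≫ b)).obj V))
      (F.obj.map (compMap a b V).op s) = Q.obj.map ((EtCoh.bc gX).map (compMap a b V)).op u :=
    NatTrans.naturality_apply ((EtCoh.pullPushAdj gX).unit.app F).hom (compMap a b V).op s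
  refine (congrArg (Q.obj.map (bcSq wab V).op) e1).trans ?_
  let y := ((EtCoh.pullPushAdj gY).unit.app ((EtCoh.push a).obj F)).hom.app (op ((EtCoh.bc b).obj V)) s
  have e2 : cb.hom.app (op W) t = ((EtCoh.pull gY).obj ((EtCoh.push a).obj F)).obj.map (bcSq wb V).op y :=
    ConcreteCategory.congr_hom (baseChange0_unit wb ((EtCoh.push a).obj F) V) s
  have e3 : ca.hom.app (op ((EtCoh.bc b').obj W))
      (((EtCoh.pull gY).obj ((EtCoh.push a).obj F)).obj.map (bcSq wb V).op y) =
      Q.obj.map ((EtCoh.bc a').map (bcSq wb V)).op (Q.obj.map (bcSq wa ((EtCoh.bc b).obj V)).op u) :=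
    (NatTrans.naturality_apply ca.hom (bcSq wb V).op y).trans
      (congrArg _ (ConcreteCategory.congr_hom (baseChange0_unit wa F ((EtCoh.bc b).obj V)) s))
  refine Eq.trans ?_ (congrArg (Q.obj.map (compMap a' b' W).op)
    ((congrArg (ca.hom.app (op ((EtCoh.bc b').obj W))) e2).trans e3)).symm
  have key : Q.obj.map ((EtCoh.bc gX).map (compMap a b V)).op ≫ Q.obj.map (bcSq wab V).op =
      Q.obj.map (bcSq wa ((EtCoh.bc b).obj V)).op ≫ Q.obj.map ((EtCoh.bc a').map (bcSq wb V)).op ≫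
        Q.obj.map (compMap a' b' W).op := by
    simp only [← Functor.map_comp, ← op_comp]
    exact congrArg (fun p => Q.obj.map (Quiver.Hom.op p)) ((bcSq_stack wb wa wab V).trans (Category.assoc _ _ _).symm)
  exact ConcreteCategory.congr_hom key u

end Groth.Agent.EtBC
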