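import Groth.Agent.EtBC.VPaste
import Groth.Agent.RDerBC.EdgeIso
import Groth.Agent.EtFound.PushExact

/-! stacking of base change morphisms over an exact direct image -/

set_option autoImplicit false
set_option linter.style.haveILetI false
universe u

open CategoryTheory CategoryTheory.Limits AlgebraicGeometry Opposite

namespace Groth.Agent.EtBC

open Groth.Agent.EtLimit Groth.Agent.EtFound SiteBase

theorem deg0_in {C : Type*} [Category* C] {Pb T0 T1 U0 U1 V0 W Q0 Q1 : C} {tb : Pb ⟶ T0} {cq : T0 ⟶ T1}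
    {cb : Pb ⟶ U0} {tb' : U0 ⟶ T1} (h1 : tb ≫ cq = cb ≫ tb') {m : T1 ⟶ U1} {ca : U0 ⟶ V0} {tb'' : V0 ⟶ U1}
    (h2 : tb' ≫ m = ca ≫ tb'') {e' : U1 ⟶ W} {V1 : C} {j' : V0 ⟶ V1} {t' : V1 ⟶ W} (h3 : tb'' ≫ e' = j' ≫ t')
    {i : Pb ⟶ Q0} {c : Q0 ⟶ V1} (h4 : i ≫ c = cb ≫ ca ≫ j') {t : Q0 ⟶ Q1} {l : Q1 ⟶ W}
    (h5 : t ≫ l = c ≫ t') : tb ≫ cq ≫ m ≫ e' = i ≫ t ≫ l := by
  rw [reassoc_of% h1, reassoc_of% h2, h3, h5, reassoc_of% h4]

set_option backward.isDefEq.respectTransparency.types false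
set_option maxHeartbeats 1000000

/-- the first edge map of a direct image which is exact -/
theorem isIso_lerayEdgeIn {X Y S : Scheme.{u}} (a : X ⟶ Y) (b : Y ⟶ S) [PreservesFiniteLimits (EtCoh.pull a)]
    [PreservesFiniteColimits (EtCoh.push a)] (q : ℕ) (F : EtCoh.Ab X) : IsIso (EtBC.lerayEdgeIn a b q F) := by
  haveI := RDerBC.isIso_edgeIn (EtCoh.push a) (EtCoh.push b) F (fun p hp => by
    obtain ⟨n, rfl⟩ : ∃ n, p = n + 1 := ⟨p - 1, by omega⟩
    exact LerayDegen.isZero_rightDerived_of_exact (EtCoh.push a) F n) q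
  dsimp only [EtBC.lerayEdgeIn]
  infer_instance

variable {X Y S X' Y' S' : Scheme.{u}} {a : X ⟶ Y} {b : Y ⟶ S} {g : S' ⟶ S} {a' : X' ⟶ Y'} {b' : Y' ⟶ S'}
  {gX : X' ⟶ X} {gY : Y' ⟶ Y} (wb : gY ≫ b = b' ≫ g) (wa : gX ≫ a = a' ≫ gY)
  (wab : gX ≫ a ≫ b = (a' ≫ b') ≫ g)
  [PreservesFiniteLimits (EtCoh.pull gX)] [PreservesFiniteLimits (EtCoh.pull gY)]
  [PreservesFiniteLimits (EtCoh.pull a)] [PreservesFiniteLimits (EtCoh.pull a')]
  [PreservesFiniteColimits (EtCoh.push a)] [PreservesFiniteColimits (EtCoh.push a')]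

/-- the inverse image of the edge map -/
theorem isIso_pull_edgeIn (q : ℕ) (F : EtCoh.Ab X) :
    IsIso ((EtCoh.pull g).map (EtBC.lerayEdgeIn a b q F)) :=
  haveI := isIso_lerayEdgeIn a b q F
  inferInstance

/-- the two base changes over the inverse of the edge map -/
noncomputable def inR (q : ℕ) :
    EtCoh.Rpush (a ≫ b) q ⋙ EtCoh.pull g ⟶ EtCoh.pull gX ⋙ EtCoh.Rpush (a' ≫ b') q where
  app F :=
    haveI := isIso_pull_edgeIn (g := g) (a := a) (b := b) q F
    inv ((EtCoh.pull g).map (EtBC.lerayEdgeIn a b q F)) ≫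
      EtBC.bcQ b g b' gY wb q ((EtCoh.push a).obj F) ≫
        (EtCoh.Rpush b' q).map (EtCoh.baseChange0 a gY a' gX wa F) ≫
          EtBC.lerayEdgeIn a' b' q ((EtCoh.pull gX).obj F)
  naturality F G m :=
    haveI := isIso_pull_edgeIn (g := g) (a := a) (b := b) q F
    haveI := isIso_pull_edgeIn (g := g) (a := a) (b := b) q G
    chain4 (inv_sq (map_sq' (EtCoh.pull g) (lerayEdgeIn_natural a b q m)))
      (bcQ_naturality b g b' gY wb q ((EtCoh.push a).map m))
      (map_sq' (EtCoh.Rpush b' q) (baseChange0_natural wa m))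
      (lerayEdgeIn_natural a' b' q ((EtCoh.pull gX).map m))

theorem inR_δ {E : ShortComplex (EtCoh.Ab X)} (hE : E.ShortExact) (hE' : (E.map (EtCoh.pull gX)).ShortExact)
    (n₀ n₁ : ℕ) (h : n₀ + 1 = n₁) :
    (EtCoh.pull g).map ((SESResLib.derivedLES (EtCoh.push (a ≫ b))).δ E hE n₀ n₁ h) ≫ (inR wb wa n₁).app E.X₁ =
      (inR wb wa n₀).app E.X₃ ≫
        (SESResLib.derivedLES (EtCoh.push (a' ≫ b'))).δ (E.map (EtCoh.pull gX)) hE' n₀ n₁ h := by
  haveI : (EtCoh.push a).Additive := Functor.additive_of_preserves_binary_products _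
  haveI : (EtCoh.push a').Additive := Functor.additive_of_preserves_binary_products _
  haveI : PreservesFiniteColimits (EtCoh.pull gY) :=
    haveI : PreservesColimitsOfSize.{0, 0} (EtCoh.pull gY) := (EtCoh.pullPushAdj gY).leftAdjoint_preservesColimits
    PreservesColimitsOfSize.preservesFiniteColimits _
  haveI := isIso_pull_edgeIn (g := g) (a := a) (b := b) n₀ E.X₃
  haveI := isIso_pull_edgeIn (g := g) (a := a) (b := b) n₁ E.X₁
  have hA := hE.map_of_exact (EtCoh.push a)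
  have hA' := hA.map_of_exact (EtCoh.pull gY)
  have hB := hE'.map_of_exact (EtCoh.push a')
  exact chain4 (inv_sq (map_sq' (EtCoh.pull g) (lerayEdgeIn_δ a b hE hA n₀ n₁ h)))
    (bcQ_δ b g b' gY wb hA hA' n₀ n₁ h)
    ((SESResLib.derivedLES (EtCoh.push b')).δ_natural hA' hB (bc0Short wa E) n₀ n₁ h).symm
    (lerayEdgeIn_δ a' b' hE' hB n₀ n₁ h)

/-- stacking, first edge map -/
theorem bcQ_stack_in (q : ℕ) (F : EtCoh.Ab X) :
    (EtCoh.pull g).map (EtBC.lerayEdgeIn a b q F) ≫ EtBC.bcQ (a ≫ b) g (a' ≫ b') gX wab q F =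
      EtBC.bcQ b g b' gY wb q ((EtCoh.push a).obj F) ≫
        (EtCoh.Rpush b' q).map (EtCoh.baseChange0 a gY a' gX wa F) ≫
          EtBC.lerayEdgeIn a' b' q ((EtCoh.pull gX).obj F) := by
  haveI : ∀ n P, IsIso ((EtCoh.pull g).map (EtBC.lerayEdgeIn a b n P)) := isIso_pull_edgeIn
  suffices h : EtBC.bcQ (a ≫ b) g (a' ≫ b') gX wab q F = (inR wb wa q).app F by
    rw [h]
    exact IsIso.hom_inv_id_assoc _ _
  refine EtFound.eq_of_stalks _ _ fun Ω _ _ ξ => ?_
  haveI : (EtCoh.stalk ξ).Additive := Functor.additive_of_preserves_binary_products _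
  haveI : PreservesFiniteLimits (EtCoh.pull g) := pull_preservesFiniteLimits _
  haveI : PreservesFiniteColimits (EtCoh.pull g) :=
    haveI : PreservesColimitsOfSize.{0, 0} (EtCoh.pull g) := (EtCoh.pullPushAdj g).leftAdjoint_preservesColimits
    PreservesColimitsOfSize.preservesFiniteColimits _
  haveI : PreservesFiniteColimits (EtCoh.pull gX) :=
    haveI : PreservesColimitsOfSize.{0, 0} (EtCoh.pull gX) := (EtCoh.pullPushAdj gX).leftAdjoint_preservesColimits
    PreservesColimitsOfSize.preservesFiniteColimits _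
  haveI : (EtCoh.pull g).Additive := Functor.additive_of_preserves_binary_products _
  refine family_unique (EtCoh.push (a ≫ b)) (EtCoh.pull g) (EtCoh.pull gX) (EtCoh.push (a' ≫ b')) (EtCoh.stalk ξ)
    (bcQNat (a ≫ b) g (a' ≫ b') gX wab) (inR wb wa)
    (fun E hE n => bcQ_δ (a ≫ b) g (a' ≫ b') gX wab hE (hE.map_of_exact (EtCoh.pull gX)) n (n + 1) rfl)
    (fun E hE n => inR_δ wb wa hE (hE.map_of_exact (EtCoh.pull gX)) n (n + 1) rfl) (fun P => ?_) q F
  exact (deg0_inv ((map_sq' (EtCoh.pull g) (EtBC.toRightDerivedZero_lerayEdgeIn a b P)))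
    (deg0_in (EtBC.bcQ_zero_compat b g b' gY wb ((EtCoh.push a).obj P))
      ((EtCoh.push b').toRightDerivedZero.naturality (EtCoh.baseChange0 a gY a' gX wa P)).symm
      (EtBC.toRightDerivedZero_lerayEdgeIn a' b' ((EtCoh.pull gX).obj P))
      (baseChange0_stack wb wa wab P)
      (EtBC.bcQ_zero_compat (a ≫ b) g (a' ≫ b') gX wab P))).symm

end Groth.Agent.EtBC
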